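import Groth.Agent.L01.Regular
import Groth.Agent.L07.QuasiRegular
import Mathlib.RingTheory.LocalRing.ResidueField.Basic
import Mathlib.Data.Fin.VecNotation
import Mathlib.Tactic

/-! Regular parameters of a three dimensional regular local ring. -/

set_option autoImplicit false
set_option linter.style.haveILetI false

universe u

namespace Groth.L05.RDP

open IsLocalRing MvPolynomial

variable {R : Type u} [CommRing R] [IsRegularLocalRing R]

local notation "𝔪" => maximalIdeal R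

theorem maximalIdeal_eq_span_singleton_of_dim_one {T : Type u} [CommRing T] [IsRegularLocalRing T]
    (h : ringKrullDim T = 1) : ∃ t, maximalIdeal T = Ideal.span {t} := by
  have h1 := IsRegularLocalRing.spanFinrank_maximalIdeal (R := T)
  rw [h] at h1
  norm_cast at h1
  have hfg : (maximalIdeal T).FG := Ideal.fg_of_isNoetherianRing _
  obtain ⟨t, ht⟩ := Set.ncard_eq_one.1 ((Submodule.FG.generators_ncard hfg).trans h1)
  exact ⟨t, by rw [Ideal.span, ← ht]; exact (Submodule.span_generators _).symm⟩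

/-- Three regular parameters. -/
structure Params (a b c : R) : Prop where
  span : Ideal.span {a, b, c} = maximalIdeal R
  dim : ringKrullDim R = 3

namespace Params

variable {a b c : R}

theorem mem₁ (h : Params a b c) : a ∈ 𝔪 := h.span ▸ Ideal.subset_span (by simp)

theorem mem₂ (h : Params a b c) : b ∈ 𝔪 := h.span ▸ Ideal.subset_span (by simp)

theorem mem₃ (h : Params a b c) : c ∈ 𝔪 := h.span ▸ Ideal.subset_span (by simp)

theorem swap (h : Params a b c) : Params b a c :=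
  ⟨by rw [Set.insert_comm]; exact h.span, h.dim⟩

theorem swap₂ (h : Params a b c) : Params a c b :=
  ⟨by rw [Set.pair_comm]; exact h.span, h.dim⟩

theorem span_range (h : Params a b c) : Ideal.span (Set.range ![a, b, c]) = 𝔪 := by
  rw [← h.span]; congr 1; ext z
  simp [Matrix.range_cons, Matrix.range_empty, or_comm, or_left_comm]

theorem qreg (h : Params a b c) : CAlgX.IsQuasiRegular ![a, b, c] := by
  refine Groth.L07.QReg.isQuasiRegular_of_isWeaklyRegular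
    (Groth.L01.isRegular_of_ofList_eq_maximalIdeal _ ?_ ?_).toIsWeaklyRegular
  · rw [Groth.L07.QReg.ofList_ofFn]; exact h.span_range
  · rw [List.length_ofFn, h.dim]; norm_cast

/-- A form in the parameters lies one step deeper only if it vanishes modulo `𝔪`. -/
theorem forms (h : Params a b c) {n : ℕ} {F : MvPolynomial (Fin 3) R} (hF : F.IsHomogeneous n)
    (he : eval ![a, b, c] F ∈ 𝔪 ^ (n + 1)) : MvPolynomial.map (residue R) F = 0 := by
  ext d
  rw [coeff_map, coeff_zero, residue_eq_zero_iff, ← h.span_range]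
  exact h.qreg n F hF (by rw [h.span_range]; exact he) d

theorem lin_eq (h : Params a b c) {α β γ : R} (he : α * a + β * b + γ * c ∈ 𝔪 ^ 2) :
    α ∈ 𝔪 ∧ β ∈ 𝔪 ∧ γ ∈ 𝔪 := by
  have hF : (C α * X 0 + C β * X 1 + C γ * X 2 : MvPolynomial (Fin 3) R).IsHomogeneous 1 :=
    (((isHomogeneous_X R 0).C_mul α).add ((isHomogeneous_X R 1).C_mul β)).add ((isHomogeneous_X R 2).C_mul γ)
  have h0 := h.forms hF (by simpa using he)
  have key : ∀ v : Fin 3 → ResidueField R, residue R α * v 0 + residue R β * v 1 + residue R γ * v 2 = 0 :=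
    fun v => by simpa using congrArg (eval v) h0
  refine ⟨(residue_eq_zero_iff α).1 ?_, (residue_eq_zero_iff β).1 ?_, (residue_eq_zero_iff γ).1 ?_⟩
  · simpa using key ![1, 0, 0]
  · simpa using key ![0, 1, 0]
  · simpa using key ![0, 0, 1]

theorem quad_eq (h : Params a b c) {c₁ c₂ c₃ c₄ c₅ c₆ : R}
    (he : c₁ * a ^ 2 + c₂ * (a * b) + c₃ * (a * c) + c₄ * b ^ 2 + c₅ * (b * c) + c₆ * c ^ 2 ∈ 𝔪 ^ 3) :
    c₁ ∈ 𝔪 ∧ c₂ ∈ 𝔪 ∧ c₃ ∈ 𝔪 ∧ c₄ ∈ 𝔪 ∧ c₅ ∈ 𝔪 ∧ c₆ ∈ 𝔪 := by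
  have hm : ∀ i j : Fin 3, (X i * X j : MvPolynomial (Fin 3) R).IsHomogeneous 2 := fun i j =>
    (isHomogeneous_X R i).mul (isHomogeneous_X R j)
  have hp : ∀ i : Fin 3, (X i ^ 2 : MvPolynomial (Fin 3) R).IsHomogeneous 2 := fun i => by
    rw [sq]; exact hm i i
  have hF : (C c₁ * X 0 ^ 2 + C c₂ * (X 0 * X 1) + C c₃ * (X 0 * X 2) + C c₄ * X 1 ^ 2 + C c₅ * (X 1 * X 2) +
      C c₆ * X 2 ^ 2 : MvPolynomial (Fin 3) R).IsHomogeneous 2 :=
    ((((((hp 0).C_mul c₁).add ((hm 0 1).C_mul c₂)).add ((hm 0 2).C_mul c₃)).add ((hp 1).C_mul c₄)).add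
      ((hm 1 2).C_mul c₅)).add ((hp 2).C_mul c₆)
  have h0 := h.forms hF (by simpa using he)
  have key : ∀ v : Fin 3 → ResidueField R, residue R c₁ * v 0 ^ 2 + residue R c₂ * (v 0 * v 1) +
      residue R c₃ * (v 0 * v 2) + residue R c₄ * v 1 ^ 2 + residue R c₅ * (v 1 * v 2) + residue R c₆ * v 2 ^ 2 = 0 :=
    fun v => by simpa using congrArg (eval v) h0
  have e1 : residue R c₁ = 0 := by simpa using key ![1, 0, 0]
  have e4 : residue R c₄ = 0 := by simpa using key ![0, 1, 0]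
  have e6 : residue R c₆ = 0 := by simpa using key ![0, 0, 1]
  have e2 : residue R c₂ = 0 := by simpa [e1, e4] using key ![1, 1, 0]
  have e3 : residue R c₃ = 0 := by simpa [e1, e6] using key ![1, 0, 1]
  have e5 : residue R c₅ = 0 := by simpa [e4, e6] using key ![0, 1, 1]
  exact ⟨(residue_eq_zero_iff _).1 e1, (residue_eq_zero_iff _).1 e2, (residue_eq_zero_iff _).1 e3,
    (residue_eq_zero_iff _).1 e4, (residue_eq_zero_iff _).1 e5, (residue_eq_zero_iff _).1 e6⟩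

theorem notMem_sq₁ (h : Params a b c) : a ∉ 𝔪 ^ 2 := fun ha => by
  have := (h.lin_eq (α := 1) (β := 0) (γ := 0) (by simpa using ha)).1
  exact (maximalIdeal.isMaximal R).ne_top ((Ideal.eq_top_iff_one _).2 this)

theorem notMem_sq₂ (h : Params a b c) : b ∉ 𝔪 ^ 2 := h.swap.notMem_sq₁

theorem notMem_sq₃ (h : Params a b c) : c ∉ 𝔪 ^ 2 := h.swap₂.swap.notMem_sq₁

theorem exists_lin (h : Params a b c) {g : R} (hg : g ∈ 𝔪) : ∃ α β γ, g = α * a + β * b + γ * c := by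
  rw [← h.span, Ideal.mem_span_insert] at hg
  obtain ⟨α, y, hy, rfl⟩ := hg
  obtain ⟨β, γ, rfl⟩ := Ideal.mem_span_pair.1 hy
  exact ⟨α, β, γ, by ring⟩

theorem exists_quad (h : Params a b c) {g : R} (hg : g ∈ 𝔪 ^ 2) : ∃ c₁ c₂ c₃ c₄ c₅ c₆,
    g = c₁ * a ^ 2 + c₂ * (a * b) + c₃ * (a * c) + c₄ * b ^ 2 + c₅ * (b * c) + c₆ * c ^ 2 := by
  rw [sq] at hg
  induction hg using Submodule.mul_induction_on' with
  | mem_mul_mem p hp q hq =>
    obtain ⟨α, β, γ, rfl⟩ := h.exists_lin hp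
    obtain ⟨α', β', γ', rfl⟩ := h.exists_lin hq
    exact ⟨α * α', α * β' + β * α', α * γ' + γ * α', β * β', β * γ' + γ * β', γ * γ', by ring⟩
  | add p _ q _ hp hq =>
    obtain ⟨d₁, d₂, d₃, d₄, d₅, d₆, rfl⟩ := hp
    obtain ⟨e₁, e₂, e₃, e₄, e₅, e₆, rfl⟩ := hq
    exact ⟨d₁ + e₁, d₂ + e₂, d₃ + e₃, d₄ + e₄, d₅ + e₅, d₆ + e₆, by ring⟩

end Params

theorem exists_params_pair (hdim : ringKrullDim R = 3) {a l : R} (ha : a ∈ 𝔪) (ha2 : a ∉ 𝔪 ^ 2) (hl : l ∈ 𝔪)
    (hind : ∀ r, l - r * a ∉ 𝔪 ^ 2) : ∃ c, Params a l c := by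
  obtain ⟨h1, hd1⟩ := Groth.L01.regular_quotient_of_notMem_sq ha ha2
  haveI := h1
  set π := Ideal.Quotient.mk (Ideal.span {a})
  have hl' : π l ∈ maximalIdeal (R ⧸ Ideal.span {a}) := by
    rw [Groth.L01.maximalIdeal_quotient_eq_map]; exact Ideal.mem_map_of_mem _ hl
  have hl2 : π l ∉ maximalIdeal (R ⧸ Ideal.span {a}) ^ 2 := by
    rw [Groth.L01.maximalIdeal_quotient_eq_map, ← Ideal.map_pow, Ideal.mem_map_iff_of_surjective _ Ideal.Quotient.mk_surjective]
    rintro ⟨y, hy, hyl⟩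
    obtain ⟨r, hr⟩ := Ideal.mem_span_singleton'.1 (Ideal.Quotient.eq.1 hyl)
    exact hind (-r) (by rwa [show l - -r * a = y by linear_combination hr])
  obtain ⟨h2, hd2⟩ := Groth.L01.regular_quotient_of_notMem_sq hl' hl2
  haveI := h2
  obtain ⟨m, hm⟩ := Groth.L01.exists_dim_eq_nat (R := R ⧸ Ideal.span {a})
  obtain ⟨k, hk⟩ := Groth.L01.exists_dim_eq_nat (R := (R ⧸ Ideal.span {a}) ⧸ Ideal.span {π l})
  rw [hdim, hm] at hd1
  rw [hm, hk] at hd2
  norm_cast at hd1 hd2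
  obtain ⟨t, ht⟩ := maximalIdeal_eq_span_singleton_of_dim_one (T := (R ⧸ Ideal.span {a}) ⧸ Ideal.span {π l})
    (by rw [hk, show k = 1 by omega]; rfl)
  obtain ⟨t₁, rfl⟩ := Ideal.Quotient.mk_surjective t
  obtain ⟨t₀, rfl⟩ := Ideal.Quotient.mk_surjective t₁
  refine ⟨t₀, ?_, hdim⟩
  have h3 := Groth.L01.maximalIdeal_eq_span_insert hl' (s := {π t₀}) (by rw [Set.image_singleton, ← ht])
  exact Groth.L01.maximalIdeal_eq_span_insert ha (s := {l, t₀}) (by rw [Set.image_pair]; exact h3)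

theorem exists_params (hdim : ringKrullDim R = 3) {a : R} (ha : a ∈ 𝔪) (ha2 : a ∉ 𝔪 ^ 2) :
    ∃ b c, Params a b c := by
  by_contra hc
  push Not at hc
  have hsub : ∀ l ∈ 𝔪, ∃ r, l - r * a ∈ 𝔪 ^ 2 := fun l hl => by
    by_contra h
    push Not at h
    obtain ⟨c, hP⟩ := exists_params_pair hdim ha ha2 hl h
    exact hc l c hP
  have hle : 𝔪 ≤ Ideal.span {a} := Groth.L01.maximalIdeal_le_of_le_sup_sq fun l hl => by
    obtain ⟨r, hr⟩ := hsub l hl
    rw [show l = r * a + (l - r * a) by ring]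
    exact add_mem (Submodule.mem_sup_left (Ideal.mem_span_singleton'.2 ⟨r, rfl⟩)) (Submodule.mem_sup_right hr)
  have h1 := ringKrullDim_le_spanFinrank_maximalIdeal R
  rw [hdim, le_antisymm hle ((Ideal.span_singleton_le_iff_mem _).2 ha), Ideal.span] at h1
  have h2 := Submodule.spanFinrank_span_le_ncard_of_finite (R := R) (Set.finite_singleton a)
  rw [Set.ncard_singleton] at h2
  norm_cast at h1
  omega

end Groth.L05.RDP
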