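import Groth.Agent.L05.RDP.Chain
import Groth.Agent.L07.RegularQuotient
import Groth.Agent.L01.CompletionReg
import Mathlib.RingTheory.DiscreteValuationRing.TFAE
import Mathlib.RingTheory.DedekindDomain.Dvr
import Mathlib.RingTheory.AdicCompletion.LocalRing

/-! Normal hypersurface singularities of dimension two. -/

set_option autoImplicit false
set_option linter.style.haveILetI false
set_option backward.isDefEq.respectTransparency false
set_option backward.isDefEq.respectTransparency.types false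
set_option maxHeartbeats 800000

universe u

noncomputable section

namespace Groth.L05.RDP

open IsLocalRing

variable {R : Type u} [CommRing R] [IsRegularLocalRing R]

theorem ringKrullDim_hypersurface (hdim : ringKrullDim R = 3) {f : R} (hf : f ∈ maximalIdeal R) (hf0 : f ≠ 0) :
    ringKrullDim (R ⧸ Ideal.span {f}) = 2 := by
  haveI := Groth.L01.isDomain_of_regular R
  have h := ringKrullDim_quotient_span_singleton_succ_eq_ringKrullDim_of_mem_nonZeroDivisors
    (mem_nonZeroDivisors_of_ne_zero hf0) hf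
  rw [hdim] at h
  haveI : IsLocalRing (R ⧸ Ideal.span {f}) := Groth.L01.isLocalRing_quotient
    (ne_top_of_le_ne_top (maximalIdeal.isMaximal R).ne_top ((Ideal.span_singleton_le_iff_mem _).2 hf))
  obtain ⟨n, hn⟩ := Groth.L01.exists_dim_eq_nat (R := R ⧸ Ideal.span {f})
  rw [hn] at h ⊢
  norm_cast at h ⊢
  omega

/-- Two regular parameters generate a prime. -/
theorem Params.prime₂ {a b c : R} (hP : Params a b c) : (Ideal.span {a, b}).IsPrime := by
  obtain ⟨h1, -⟩ := Groth.L01.regular_quotient_of_notMem_sq hP.mem₁ hP.notMem_sq₁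
  haveI := h1
  have hb : Ideal.Quotient.mk (Ideal.span {a}) b ∉ maximalIdeal (R ⧸ Ideal.span {a}) ^ 2 := by
    rw [Groth.L01.maximalIdeal_quotient_eq_map (I := Ideal.span {a}), ← Ideal.map_pow, Ideal.mem_map_iff_of_surjective _ Ideal.Quotient.mk_surjective]
    rintro ⟨w, hw, hwb⟩
    obtain ⟨r, hr⟩ := Ideal.mem_span_singleton'.1 (Ideal.Quotient.eq.1 hwb)
    have := (hP.lin_eq (α := r) (β := 1) (γ := 0) (by convert hw using 1; linear_combination hr)).2.1
    exact (maximalIdeal.isMaximal R).ne_top ((Ideal.eq_top_iff_one _).2 this)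
  obtain ⟨h3, -⟩ := Groth.L01.regular_quotient_of_notMem_sq (x := Ideal.Quotient.mk (Ideal.span {a}) b) (by
    rw [Groth.L01.maximalIdeal_quotient_eq_map (I := Ideal.span {a})]; exact Ideal.mem_map_of_mem _ hP.mem₂) hb
  haveI := h3
  haveI := Groth.L01.isDomain_of_regular ((R ⧸ Ideal.span {a}) ⧸ Ideal.span {Ideal.Quotient.mk (Ideal.span {a}) b})
  have h4 : Ideal.span {Ideal.Quotient.mk (Ideal.span {a}) b} = (Ideal.span {b}).map (Ideal.Quotient.mk (Ideal.span {a})) := by
    rw [Ideal.map_span, Set.image_singleton]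
  have h5 : ((Ideal.span {b}).map (Ideal.Quotient.mk (Ideal.span {a}))).IsPrime :=
    h4 ▸ (Ideal.Quotient.isDomain_iff_prime _).1 inferInstance
  rw [Ideal.span_insert, sup_comm]
  have := h5.comap (Ideal.Quotient.mk (Ideal.span {a}))
  rwa [Ideal.comap_map_of_surjective' _ Ideal.Quotient.mk_surjective, Ideal.mk_ker] at this

theorem NP_of_normal (hdim : ringKrullDim R = 3) {f : R} (hf0 : f ≠ 0) {S : Type u} [CommRing S] [IsDomain S] [IsLocalRing S]
    [IsIntegrallyClosed S] (π : R →+* S) (hπ : Function.Surjective π) (hker : RingHom.ker π = Ideal.span {f}) :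
    NP f := by
  haveI := Groth.L01.isDomain_of_regular R
  intro p q r hP hfP
  set P := Ideal.span ({p, q} : Set R) with hPdef
  haveI hPp : P.IsPrime := hP.prime₂
  have hfP1 : f ∈ P := Ideal.pow_le_self two_ne_zero hfP
  have hfm : f ∈ maximalIdeal R ^ 2 :=
    Ideal.pow_right_mono (Ideal.span_le.2 (by rintro w (rfl | rfl); exacts [hP.mem₁, hP.mem₂])) 2 hfP
  have hkP : RingHom.ker π ≤ P := hker ▸ (Ideal.span_singleton_le_iff_mem _).2 hfP1
  haveI : IsNoetherianRing S := isNoetherianRing_of_surjective R S π hπ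
  set 𝔭 := P.map π
  haveI h𝔭 : 𝔭.IsPrime := Ideal.map_isPrime_of_surjective hπ hkP
  have hcomap : 𝔭.comap π = P := by
    rw [Ideal.comap_map_of_surjective' _ hπ, sup_eq_left.2 hkP]
  have hpS : π p ≠ 0 := fun h => by
    obtain ⟨e, he⟩ := Ideal.mem_span_singleton'.1 (hker.le (RingHom.mem_ker.2 h))
    exact hP.notMem_sq₁ (he ▸ Ideal.mul_mem_left _ _ hfm)
  have hr : π r ∉ 𝔭 := fun h => by
    obtain ⟨u, v, he⟩ := Ideal.mem_span_pair.1 (hcomap.le (Ideal.mem_comap.2 h))
    have := (hP.lin_eq (α := -u) (β := -v) (γ := 1) (by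
      rw [show -u * p + -v * q + 1 * r = (0 : R) by linear_combination (-1) * he]; exact zero_mem _)).2.2
    exact (maximalIdeal.isMaximal R).ne_top ((Ideal.eq_top_iff_one _).2 this)
  have hdimS : ringKrullDim S = 2 := by
    rw [← ringKrullDim_eq_of_ringEquiv (RingHom.quotientKerEquivOfSurjective hπ),
      ringKrullDim_eq_of_ringEquiv (Ideal.quotEquivOfEq hker)]
    exact ringKrullDim_hypersurface hdim (Ideal.pow_le_self two_ne_zero hfm) hf0
  have h𝔭0 : 𝔭 ≠ ⊥ := fun h => hpS (by
    rw [← Ideal.mem_bot, ← h]; exact Ideal.mem_map_of_mem π (Ideal.subset_span (by simp)))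
  have hlt : 𝔭 < maximalIdeal S := lt_of_le_of_ne (le_maximalIdeal h𝔭.ne_top) fun e => hr (e ▸ by
    rw [← IsLocalRing.map_maximalIdeal_of_surjective π hπ]; exact Ideal.mem_map_of_mem π hP.mem₃)
  have hmin : ∀ Q : Ideal S, Q.IsPrime → Q ≠ ⊥ → Q ≤ 𝔭 → Q = 𝔭 := by
    intro Q hQ hQ0 hQle
    by_contra hne
    haveI := hQ
    have h1 := Ideal.height_strict_mono_of_isPrime (lt_of_le_of_ne hQle hne)
    have h2 := Ideal.height_strict_mono_of_isPrime hlt
    have h3 : (⊥ : Ideal S).height < Q.height := Ideal.height_strict_mono_of_isPrime (bot_lt_iff_ne_bot.2 hQ0)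
    have h4 : (maximalIdeal S).height ≤ 2 :=
      WithBot.coe_le_coe.1 ((IsLocalRing.maximalIdeal_height_eq_ringKrullDim (R := S)).le.trans hdimS.le)
    rw [Ideal.height_bot] at h3
    have e1 := Order.add_one_le_of_lt h3
    have e2 := Order.add_one_le_of_lt (lt_of_le_of_lt e1 h1)
    have e3 := Order.add_one_le_of_lt (lt_of_le_of_lt e2 h2)
    exact absurd (e3.trans h4) (by decide)
  set L := Localization.AtPrime 𝔭
  haveI : IsDomain L := IsLocalization.isDomain_localization 𝔭.primeCompl_le_nonZeroDivisors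
  haveI : IsIntegrallyClosed L := isIntegrallyClosed_of_isLocalization L 𝔭.primeCompl 𝔭.primeCompl_le_nonZeroDivisors
  have hprin : (maximalIdeal L).IsPrincipal := by
    have h34 : (IsIntegrallyClosed L ∧ ∀ P : Ideal L, P ≠ ⊥ → P.IsPrime → P = maximalIdeal L) ↔ (maximalIdeal L).IsPrincipal :=
      (tfae_of_isNoetherianRing_of_isLocalRing_of_isDomain L).out 3 4
    refine h34.1 ⟨inferInstance, fun Q hQ0 hQ => ?_⟩
    haveI := hQ
    have h1 : Q.comap (algebraMap S L) = 𝔭 := by
      refine hmin _ inferInstance (fun h => hQ0 ?_) ?_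
      · rw [← IsLocalization.map_comap 𝔭.primeCompl L Q, Ideal.under_def, h, Ideal.map_bot]
      · intro z hz
        by_contra hzp
        exact hQ.ne_top (Q.eq_top_of_isUnit_mem hz (IsLocalization.map_units L (⟨z, hzp⟩ : 𝔭.primeCompl)))
    rw [← IsLocalization.map_comap 𝔭.primeCompl L Q, Ideal.under_def, h1]
    exact Localization.AtPrime.map_eq_maximalIdeal
  obtain ⟨t, ht⟩ := hprin
  obtain ⟨⟨t₁, s₁⟩, hts⟩ := IsLocalization.surj 𝔭.primeCompl t
  obtain ⟨t₀, rfl⟩ := hπ t₁
  have htm : t ∈ maximalIdeal L := ht ▸ Submodule.mem_span_singleton_self t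
  have ht₀ : t₀ ∈ P := hcomap.le (Ideal.mem_comap.2 ((IsLocalization.AtPrime.to_map_mem_maximal_iff L 𝔭 _).1
    (hts ▸ Ideal.mul_mem_right _ _ htm)))
  have key : ∀ z ∈ P, ∃ s ∉ P, ∃ α, s * z - α * t₀ ∈ P ^ 2 := by
    intro z hz
    have h1 : algebraMap S L (π z) ∈ maximalIdeal L :=
      (IsLocalization.AtPrime.to_map_mem_maximal_iff L 𝔭 _).2 (Ideal.mem_map_of_mem π hz)
    rw [ht] at h1
    obtain ⟨w, hw⟩ := Submodule.mem_span_singleton.1 h1
    obtain ⟨⟨w₁, s₂⟩, hws⟩ := IsLocalization.surj 𝔭.primeCompl w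
    obtain ⟨w₀, rfl⟩ := hπ w₁
    obtain ⟨a₁, ha₁⟩ := hπ (s₁ : S)
    obtain ⟨a₂, ha₂⟩ := hπ (s₂ : S)
    have h2 : algebraMap S L (π (a₁ * a₂ * z)) = algebraMap S L (π (w₀ * t₀)) := by
      simp only [map_mul, ha₁, ha₂]
      rw [← hw, smul_eq_mul, ← hws, ← hts]
      ring
    have h3 := IsLocalization.injective L 𝔭.primeCompl_le_nonZeroDivisors h2
    rw [← sub_eq_zero, ← map_sub, ← RingHom.mem_ker, hker] at h3
    refine ⟨a₁ * a₂, fun h => ?_, w₀, ((Ideal.span_singleton_le_iff_mem _).2 hfP) h3⟩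
    rcases hPp.mem_or_mem h with h | h
    · exact s₁.2 (ha₁ ▸ Ideal.mem_map_of_mem π h)
    · exact s₂.2 (ha₂ ▸ Ideal.mem_map_of_mem π h)
  obtain ⟨s, hs, α, hα⟩ := key p (Ideal.subset_span (by simp))
  obtain ⟨s', hs', β, hβ⟩ := key q (Ideal.subset_span (by simp))
  obtain ⟨γ, δ, rfl⟩ := Ideal.mem_span_pair.1 ht₀
  have hq2 : CAlgX.IsQuasiRegular ![p, q] := by
    have h := (Groth.L01.isRegular_of_ofList_eq_maximalIdeal ([p, q] ++ [r]) (by
      rw [← hP.span, Ideal.ofList]; congr 1; ext w; simp) (by rw [hdim]; simp)).toIsWeaklyRegular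
    exact Groth.L07.QReg.isQuasiRegular_of_isWeaklyRegular (by
      simpa using ((RingTheory.Sequence.isWeaklyRegular_append_iff R _ _).1 h).1)
  have hrange : Ideal.span (Set.range ![p, q]) = P := by
    rw [hPdef]; congr 1; ext w; simp [Matrix.range_cons, Matrix.range_empty, or_comm]
  have lin : ∀ {A B : R}, A * p + B * q ∈ P ^ 2 → A ∈ P ∧ B ∈ P := by
    intro A B h
    have hF := hq2 1 (MvPolynomial.C A * MvPolynomial.X 0 + MvPolynomial.C B * MvPolynomial.X 1)
      (((MvPolynomial.isHomogeneous_X R 0).C_mul A).add ((MvPolynomial.isHomogeneous_X R 1).C_mul B)) (by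
        rw [hrange]; simpa using h)
    refine ⟨?_, ?_⟩
    · have := hF (Finsupp.single 0 1); rw [hrange] at this
      simpa [MvPolynomial.coeff_X', Finsupp.single_eq_single_iff] using this
    · have := hF (Finsupp.single 1 1); rw [hrange] at this
      simpa [MvPolynomial.coeff_X', Finsupp.single_eq_single_iff] using this
  obtain ⟨e1, e2⟩ := lin (A := s - α * γ) (B := -(α * δ)) (by convert hα using 1; ring)
  obtain ⟨e3, e4⟩ := lin (A := -(β * γ)) (B := s' - β * δ) (by convert hβ using 1; ring)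
  have hss : s * s' ∈ P := by
    rw [show s * s' = (s - α * γ) * s' + (α * γ) * (s' - β * δ) + (-(α * δ)) * (-(β * γ)) by ring]
    exact add_mem (add_mem (Ideal.mul_mem_right _ _ e1) (Ideal.mul_mem_left _ _ e4)) (Ideal.mul_mem_right _ _ e2)
  rcases hPp.mem_or_mem hss with h | h
  · exact hs h
  · exact hs' h

/-- The completion inherits the property. -/
theorem NPCpl_of_normal (hdim : ringKrullDim R = 3) {f : R} (hf0 : f ≠ 0) {S : Type u} [CommRing S] [IsLocalRing S]
    [IsNoetherianRing S] [IsDomain (AdicCompletion (maximalIdeal S) S)]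
    [IsIntegrallyClosed (AdicCompletion (maximalIdeal S) S)] (π : R →+* S) (hπ : Function.Surjective π)
    (hker : RingHom.ker π = Ideal.span {f}) : NPCpl f := by
  haveI := Groth.L01.AnalUnram.isNoetherianRing_completion R
  haveI := Groth.L01.AnalUnram.isNoetherianRing_completion S
  set Rh := AdicCompletion (maximalIdeal R) R
  haveI : IsRegularLocalRing Rh := (Groth.L01.CompletionReg.isRegularLocalRing_iff_completion R).1 inferInstance
  haveI hRc : IsAdicComplete (maximalIdeal Rh) Rh := inferInstance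
  have hdimh : ringKrullDim Rh = 3 := (Groth.L01.CompletionReg.ringKrullDim_completion (A := R)).trans hdim
  refine ⟨Rh, inferInstance, inferInstance, hRc, algebraMap R Rh, hdimh,
    Groth.L01.AnalUnram.completion_map_maximalIdeal R, ?_⟩
  obtain ⟨e⟩ := Groth.L07.RegQuot.exists_completionQuotEquiv π hπ
  refine NP_of_normal hdimh ?_ (e.toRingHom.comp (Ideal.Quotient.mk _))
    (e.surjective.comp Ideal.Quotient.mk_surjective) ?_
  · haveI := Groth.L01.CompletionExt.faithfullyFlat R
    intro h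
    exact hf0 (FaithfulSMul.algebraMap_injective R Rh (h.trans (map_zero _).symm))
  · ext z
    simp only [RingHom.mem_ker, RingHom.comp_apply, RingEquiv.toRingHom_eq_coe, RingEquiv.coe_toRingHom,
      EmbeddingLike.map_eq_zero_iff, Ideal.Quotient.eq_zero_iff_mem]
    rw [hker, Ideal.map_span, Set.image_singleton]
    exact Ideal.Quotient.eq_zero_iff_mem

end Groth.L05.RDP
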