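import Groth.Agent.L05.RDP.FromChart
import Groth.Agent.L05.RDP.Normal
import Groth.Agent.L07.OrderValuation

/-! A point of the blown up double point is a double point in the blown up ambient. -/

set_option autoImplicit false
set_option linter.style.haveILetI false
set_option backward.isDefEq.respectTransparency false
set_option backward.isDefEq.respectTransparency.types false
set_option maxSynthPendingDepth 5
set_option maxHeartbeats 800000

universe u

noncomputable section

namespace Groth.L05.RDP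

open IsLocalRing Groth.L13.BU Groth.L11.BlowSmooth

theorem exists_link {R : Type u} [CommRing R] [IsRegularLocalRing R] (hdim : ringKrullDim R = 3)
    {S : Type u} [CommRing S] [IsDomain S] [IsLocalRing S] (π : R →+* S) (hπ : Function.Surjective π) {f : R}
    (hker : RingHom.ker π = Ideal.span {f}) (hf2 : f ∈ maximalIdeal R ^ 2) (hf3 : f ∉ maximalIdeal R ^ 3)
    (a : S) (ha : a ∈ maximalIdeal S ^ 1) (hna : a ≠ 0) (q : Ideal (Chart (maximalIdeal S) a ha)) [hq : q.IsMaximal]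
    (hqm : maximalIdeal S ≤ q.comap (chartHom (maximalIdeal S) a ha))
    (hsing : ¬ IsRegularLocalRing (Localization.AtPrime q)) :
    ∃ (R' : Type u) (_ : CommRing R') (_ : IsRegularLocalRing R') (φ : R →+* R') (f' : R')
      (π' : R' →+* Localization.AtPrime q), Function.Surjective π' ∧ RingHom.ker π' = Ideal.span {f'} ∧
        Link φ f f' ∧ π'.comp φ = ((algebraMap _ (Localization.AtPrime q)).comp (chartHom (maximalIdeal S) a ha)).comp π := by
  haveI := Groth.L01.isDomain_of_regular R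
  haveI : IsNoetherianRing S := isNoetherianRing_of_surjective R S π hπ
  have hmS : (maximalIdeal R).map π = maximalIdeal S := IsLocalRing.map_maximalIdeal_of_surjective π hπ
  have hcom : ∀ x ∈ maximalIdeal R, chartHom (maximalIdeal S) a ha a ∣ chartHom (maximalIdeal S) a ha (π x) := fun x hx =>
    ⟨_, chartHom_eq (maximalIdeal S) a ha (π x) (by rw [pow_one, ← hmS]; exact Ideal.mem_map_of_mem π hx)⟩
  -- a parameter above `a`
  obtain ⟨a₀, ha₀, rfl⟩ := (Ideal.mem_map_iff_of_surjective π hπ).1 (by rw [hmS]; simpa using ha : a ∈ (maximalIdeal R).map π)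
  haveI : IsDomain (Chart (maximalIdeal S) (π a₀) ha) := Groth.L05.RatPow.chart_isDomain (maximalIdeal S) (π a₀) ha hna
  have hαne : chartHom (maximalIdeal S) (π a₀) ha (π a₀) ≠ 0 := nonZeroDivisors.ne_zero (chartHom_nonZeroDivisor _ _ ha)
  have ha₀2 : a₀ ∉ maximalIdeal R ^ 2 := by
    intro h2
    obtain ⟨w, hw⟩ : ∃ w, w * chartHom (maximalIdeal S) (π a₀) ha (π a₀) ^ 2 = chartHom (maximalIdeal S) (π a₀) ha (π a₀) := by
      refine (Ideal.mem_span_singleton' (α := Chart (maximalIdeal S) (π a₀) ha)).1 ?_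
      rw [← Ideal.span_singleton_pow]
      have : ((maximalIdeal R).map π).map (chartHom (maximalIdeal S) (π a₀) ha) ≤ Ideal.span {chartHom (maximalIdeal S) (π a₀) ha (π a₀)} := by
        rw [hmS]; exact (map_ideal (maximalIdeal S) (π a₀) ha).le
      refine Ideal.pow_right_mono this 2 ?_
      rw [← Ideal.map_pow, ← Ideal.map_pow]
      exact Ideal.mem_map_of_mem _ (Ideal.mem_map_of_mem π h2)
    have h4 : chartHom (maximalIdeal S) (π a₀) ha (π a₀) * w = 1 :=
      mul_left_cancel₀ hαne (by rw [mul_one, ← mul_assoc, ← pow_two, mul_comm]; exact hw)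
    refine hq.ne_top ((Ideal.eq_top_iff_one _).2 (h4 ▸ Ideal.mul_mem_right _ _ (hqm ?_)))
    simpa using ha
  obtain ⟨b, c, hP⟩ := exists_params hdim ha₀ ha₀2
  set g3 : Fin 3 → R := ![a₀, b, c]
  have hsI : sI g3 = maximalIdeal R := hP.span_range
  obtain ⟨Ψ, hΨ⟩ := exists_chart_lift (sI g3) (g3 0) (mem_pow_one g3 0)
    ((chartHom (maximalIdeal S) (π a₀) ha).comp π) (chartHom_nonZeroDivisor _ _ ha) fun x hx => hcom x (hsI ▸ hx)
  have hΨ' : ∀ x, Ψ (sh g3 0 x) = chartHom (maximalIdeal S) (π a₀) ha (π x) := fun x =>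
    congrArg (fun g : _ →+* _ => g x) hΨ
  have hπpow : ∀ {n : ℕ} {x : R}, x ∈ sI g3 ^ n → π x ∈ maximalIdeal S ^ n := fun {n x} hx => by
    rw [← hmS, ← Ideal.map_pow, ← hsI]; exact Ideal.mem_map_of_mem π hx
  have hΨfrac : ∀ (n : ℕ) (x : R) (hx : x ∈ sI g3 ^ n),
      Ψ (frac (sI g3) (g3 0) (mem_pow_one g3 0) n x hx) = frac (maximalIdeal S) (π a₀) ha n (π x) (hπpow hx) := by
    intro n x hx
    refine mul_left_cancel₀ (pow_ne_zero n hαne) ?_
    have h1 := congrArg Ψ (pow_mul_frac (sI g3) (g3 0) (mem_pow_one g3 0) n x hx)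
    rw [map_mul, map_pow, hΨ', hΨ'] at h1
    rw [pow_mul_frac]
    exact h1
  have hΨsurj : Function.Surjective Ψ := fun z => by
    obtain ⟨n, x, hx, rfl⟩ := frac_surjective (maximalIdeal S) (π a₀) ha z
    have hx' : x ∈ (maximalIdeal R ^ n).map π := by rw [Ideal.map_pow, hmS]; exact hx
    obtain ⟨x₀, hx₀, rfl⟩ := (Ideal.mem_map_iff_of_surjective π hπ).1 hx'
    exact ⟨_, hΨfrac n x₀ (hsI.symm ▸ hx₀)⟩
  set Q := q.comap Ψ
  haveI hQ : Q.IsMaximal := Ideal.comap_isMaximal_of_surjective Ψ hΨsurj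
  have hQm : maximalIdeal R ≤ Q.comap (sh g3 0) := fun x hx => by
    rw [Ideal.mem_comap, Ideal.mem_comap, hΨ']
    exact hqm (by rw [← hmS]; exact Ideal.mem_map_of_mem π hx)
  obtain ⟨hreg, hB, hmap⟩ := blow_chartMap (f := g3) hP Q hQm
  haveI := hreg
  haveI hR'dom := Groth.L01.isDomain_of_regular (Localization.AtPrime Q)
  obtain ⟨π', hπ'⟩ : ∃ π' : Localization.AtPrime Q →+* Localization.AtPrime q, ∀ z,
      π' (algebraMap _ (Localization.AtPrime Q) z) = algebraMap _ (Localization.AtPrime q) (Ψ z) :=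
    ⟨Localization.localRingHom Q q Ψ rfl, fun z => Localization.localRingHom_to_map _ _ _ _ z⟩
  have hπ's : Function.Surjective π' := fun w => by
    obtain ⟨⟨z, s, hs⟩, hzs⟩ := IsLocalization.surj q.primeCompl w
    obtain ⟨z₀, rfl⟩ := hΨsurj z
    obtain ⟨s₀, rfl⟩ := hΨsurj s
    obtain ⟨u, hu⟩ := (IsLocalization.map_units (Localization.AtPrime Q) (⟨s₀, hs⟩ : Q.primeCompl)).exists_left_inv
    refine ⟨u * algebraMap _ _ z₀, ?_⟩
    have h1 := congrArg π' hu
    rw [map_mul, hπ', map_one] at h1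
    have h5 : w * algebraMap _ (Localization.AtPrime q) (Ψ s₀) = algebraMap _ (Localization.AtPrime q) (Ψ z₀) := hzs
    rw [map_mul, hπ', ← h5, ← mul_assoc, mul_comm (π' u), mul_assoc, h1, mul_one]
  set f' := algebraMap _ (Localization.AtPrime Q) (frac (sI g3) (g3 0) (mem_pow_one g3 0) 2 f (hsI.symm ▸ hf2))
  have hπf : π f = 0 := RingHom.mem_ker.1 (hker.ge (Ideal.mem_span_singleton_self f))
  have hΨ0 : ∀ z, Ψ z = 0 → z ∈ Ideal.span {frac (sI g3) (g3 0) (mem_pow_one g3 0) 2 f (hsI.symm ▸ hf2)} := by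
    intro z hz
    obtain ⟨n, x, hx, rfl⟩ := frac_surjective (sI g3) (g3 0) (mem_pow_one g3 0) z
    rw [hΨfrac, Groth.L05.RatPow.chart_eq_zero_iff (maximalIdeal S) (π a₀) ha hna, ← RingHom.mem_ker, hker] at hz
    obtain ⟨g, hg⟩ := Ideal.mem_span_singleton'.1 hz
    have hx2 : x * a₀ ^ 2 ∈ maximalIdeal R ^ (n + 2) := by
      rw [pow_add]; exact Ideal.mul_mem_mul (hsI ▸ hx) (Ideal.pow_mem_pow ha₀ 2)
    have hgn : g * a₀ ^ 2 ∈ maximalIdeal R ^ n := by
      rcases eq_or_ne g 0 with rfl | hg0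
      · simp
      obtain ⟨k, hk⟩ := Groth.L07.Order.exists_hasOrd (mul_ne_zero hg0 (pow_ne_zero 2 (Groth.L01.ne_zero_of_notMem_sq ha₀2)))
      have h1 := hk.mul (show Groth.L07.Order.HasOrd f 2 from ⟨hf2, hf3⟩)
      have h2 := h1.le_of_mem (m := n + 2) (by rwa [show g * a₀ ^ 2 * f = x * a₀ ^ 2 by rw [← hg]; ring])
      exact Ideal.pow_le_pow_right (by omega) hk.1
    refine Ideal.mem_span_singleton'.2 ⟨frac (sI g3) (g3 0) (mem_pow_one g3 0) n (g * a₀ ^ 2) (hsI.symm ▸ hgn), ?_⟩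
    rw [frac_mul]
    refine frac_eq_frac (sI g3) (g3 0) (mem_pow_one g3 0) _ _ ?_
    show a₀ ^ n * (g * a₀ ^ 2 * f) = a₀ ^ (n + 2) * x
    rw [← hg]; ring
  have hker' : RingHom.ker π' = Ideal.span {f'} := by
    refine le_antisymm (fun r hr => ?_) ((Ideal.span_singleton_le_iff_mem _).2 ?_)
    · obtain ⟨⟨z, s, hs⟩, hzs⟩ := IsLocalization.surj Q.primeCompl r
      have h1 := congrArg π' hzs
      rw [map_mul, (RingHom.mem_ker.1 hr), zero_mul, hπ'] at h1
      have h2 : Ψ z = 0 := IsLocalization.injective (Localization.AtPrime q) q.primeCompl_le_nonZeroDivisors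
        (h1.symm.trans (map_zero _).symm)
      obtain ⟨w, hw⟩ := Ideal.mem_span_singleton'.1 (hΨ0 z h2)
      refine (Ideal.mul_unit_mem_iff_mem _ (IsLocalization.map_units (Localization.AtPrime Q) (⟨s, hs⟩ : Q.primeCompl))).1 ?_
      rw [hzs, ← hw, map_mul]
      exact Ideal.mul_mem_left _ _ (Ideal.mem_span_singleton_self _)
    · rw [RingHom.mem_ker, hπ', hΨfrac]
      rw [(Groth.L05.RatPow.chart_eq_zero_iff (maximalIdeal S) (π a₀) ha hna (hπpow (hsI.symm ▸ hf2))).2 hπf, map_zero]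
  have hloc : f' ∈ maximalIdeal (Localization.AtPrime Q) := fun hu => by
    have h0 : IsUnit (π' f') := hu.map π'
    rw [RingHom.mem_ker.1 (hker'.ge (Ideal.mem_span_singleton_self f'))] at h0
    exact not_isUnit_zero h0
  have hsing' : f' ∈ maximalIdeal (Localization.AtPrime Q) ^ 2 := by
    by_contra hc
    obtain ⟨h1, -⟩ := Groth.L01.regular_quotient_of_notMem_sq hloc hc
    haveI := h1
    exact hsing (IsRegularLocalRing.of_ringEquiv
      ((Ideal.quotEquivOfEq hker'.symm).trans (RingHom.quotientKerEquivOfSurjective hπ's)))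
  refine ⟨Localization.AtPrime Q, inferInstance, hreg, chartMap g3 Q, f', π', hπ's, hker', ⟨hB, hf2, hsing', ?_⟩, ?_⟩
  · rw [hmap, Ideal.span_singleton_pow, Ideal.span_singleton_mul_span_singleton]
    congr 2
    have h1 := congrArg (algebraMap _ (Localization.AtPrime Q)) (pow_mul_frac (sI g3) (g3 0) (mem_pow_one g3 0) 2 f (hsI.symm ▸ hf2))
    rw [map_mul, map_pow] at h1
    exact h1.symm
  · refine RingHom.ext fun z => ?_
    rw [RingHom.comp_apply, RingHom.comp_apply, RingHom.comp_apply]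
    refine (hπ' (sh g3 0 z)).trans ?_
    rw [hΨ', RingHom.comp_apply]

end Groth.L05.RDP
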