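import Groth.Agent.L05.RDP.State
import Mathlib.RingTheory.AdicCompletion.Basic
import Mathlib.RingTheory.Localization.Away.Basic
import Mathlib.RingTheory.Filtration

/-! An infinite chain of rational double points with a constant parameter traces a singular arc. -/

set_option autoImplicit false
set_option linter.style.haveILetI false
set_option backward.isDefEq.respectTransparency false
set_option backward.isDefEq.respectTransparency.types false
set_option maxHeartbeats 800000

universe u

noncomputable section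

namespace Groth.L05.RDP

open IsLocalRing

variable {A : ℕ → Type u} [∀ n, CommRing (A n)] [∀ n, IsRegularLocalRing (A n)]

/-- The composite of the first `n` maps. -/
def comp (φ : ∀ n, A n →+* A (n + 1)) : ∀ n, A 0 →+* A n
  | 0 => RingHom.id _
  | n + 1 => (φ n).comp (comp φ n)

omit [∀ n, IsRegularLocalRing (A n)] in
theorem comp_succ (φ : ∀ n, A n →+* A (n + 1)) (n : ℕ) (r : A 0) : comp φ (n + 1) r = φ n (comp φ n r) := rfl

/-- The hypotheses: a chain with constant parameter and constant residue field. -/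
structure ArcData (φ : ∀ n, A n →+* A (n + 1)) (f : ∀ n, A n) (x : A 0) : Prop where
  link : ∀ n, Link (φ n) (f n) (f (n + 1))
  param : ∀ n, (maximalIdeal (A n)).map (φ n) = Ideal.span {φ n (comp φ n x)}
  res : ∀ n (w : A (n + 1)), ∃ w₀, w - φ n w₀ ∈ maximalIdeal (A (n + 1))

namespace ArcData

variable {φ : ∀ n, A n →+* A (n + 1)} {f : ∀ n, A n} {x : A 0} (D : ArcData φ f x)
include D

theorem res_comp : ∀ n (w : A n), ∃ r, w - comp φ n r ∈ maximalIdeal (A n)
  | 0, w => ⟨w, by simp [comp]⟩
  | n + 1, w => by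
    obtain ⟨w₀, h⟩ := D.res n w
    obtain ⟨r, hr⟩ := res_comp n w₀
    refine ⟨r, ?_⟩
    have := add_mem h ((D.link n).blow.map_mem hr)
    rwa [map_sub, sub_add_sub_cancel, ← comp_succ] at this

/-- Coordinates at the `n`-th point. -/
structure Pt (φ : ∀ n, A n →+* A (n + 1)) (x : A 0) (n : ℕ) where
  y : A n
  z : A n
  Y : A 0
  Z : A 0
  params : Params (comp φ n x) y z
  eqY : comp φ n Y = comp φ n x ^ n * y
  eqZ : comp φ n Z = comp φ n x ^ n * z

theorem exists_next (n : ℕ) (p : Pt φ x n) : ∃ q : Pt φ x (n + 1),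
    (∃ a, q.Y = p.Y - a * x ^ (n + 1)) ∧ ∃ b, q.Z = p.Z - b * x ^ (n + 1) := by
  obtain ⟨Y, Z, C₀⟩ := (D.link n).blow.exists_coord p.params (D.param n)
  obtain ⟨a, ha⟩ := D.res_comp (n + 1) Y
  obtain ⟨b, hb⟩ := D.res_comp (n + 1) Z
  haveI := C₀.point_isMaximal
  have h0 : ∀ (r : A 0) (i : Fin 2) (W : A (n + 1)), W = ![Y, Z] i → W - comp φ (n + 1) r ∈ maximalIdeal (A (n + 1)) →
      (MvPolynomial.X i - MvPolynomial.C (residue (A n) (comp φ n r)) : MvPolynomial (Fin 2) (ResidueField (A n))) ∈ C₀.point := by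
    intro r i W hW hr
    rw [show (MvPolynomial.X i - MvPolynomial.C (residue (A n) (comp φ n r)) : MvPolynomial (Fin 2) (ResidueField (A n))) =
      MvPolynomial.map (residue (A n)) (MvPolynomial.X i - MvPolynomial.C (comp φ n r)) by simp, C₀.map_mem_point]
    subst hW
    rw [comp_succ] at hr
    simpa using hr
  have hP := C₀.params_of_rational (h0 a 0 Y rfl ha) (h0 b 1 Z rfl hb)
  refine ⟨⟨Y - comp φ (n + 1) a, Z - comp φ (n + 1) b, p.Y - a * x ^ (n + 1), p.Z - b * x ^ (n + 1), hP, ?_, ?_⟩,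
    ⟨a, rfl⟩, b, rfl⟩
  · rw [map_sub, map_mul, map_pow, comp_succ φ n p.Y, p.eqY, map_mul, map_pow, C₀.eq₂, ← comp_succ]; ring
  · rw [map_sub, map_mul, map_pow, comp_succ φ n p.Z, p.eqZ, map_mul, map_pow, C₀.eq₃, ← comp_succ]; ring

end ArcData

section Arc

variable {Rh : Type u} [CommRing Rh] [IsRegularLocalRing Rh]

theorem exists_limit [IsAdicComplete (maximalIdeal Rh) Rh] {xh : Rh} (hx : xh ∈ maximalIdeal Rh) (Y : ℕ → Rh)
    (hY : ∀ n, Y (n + 1) - Y n ∈ Ideal.span {xh ^ (n + 1)}) :
    ∃ y, ∀ n, ∃ e, Y n = y + xh ^ (n + 1) * e := by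
  have hle : ∀ m n, m ≤ n → Y n - Y m ∈ Ideal.span {xh ^ (m + 1)} := by
    intro m n h
    induction n, h using Nat.le_induction with
    | base => simp
    | succ n hmn ih =>
      rw [show Y (n + 1) - Y m = (Y (n + 1) - Y n) + (Y n - Y m) by ring]
      exact add_mem ((Ideal.span_singleton_le_span_singleton.2 (pow_dvd_pow xh (Nat.succ_le_succ hmn))) (hY n)) ih
  obtain ⟨y, hy⟩ := IsPrecomplete.prec (I := maximalIdeal Rh) inferInstance (f := Y) (fun {m n} h => by
    rw [SModEq.sub_mem, smul_eq_mul, Ideal.mul_top, ← neg_sub]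
    exact neg_mem (((Ideal.span_singleton_le_iff_mem _).2 (Ideal.pow_le_pow_right (Nat.le_succ m)
      (Ideal.pow_mem_pow hx _))) (hle m n h)))
  refine ⟨y, fun n => ?_⟩
  have h1 : Y n - y ∈ ⨅ N, Ideal.span {xh ^ (n + 1)} ⊔ maximalIdeal Rh ^ N := by
    refine Submodule.mem_iInf _ |>.2 fun N => ?_
    have h2 := hy (max n N)
    rw [SModEq.sub_mem, smul_eq_mul, Ideal.mul_top] at h2
    rw [show Y n - y = -(Y (max n N) - Y n) + (Y (max n N) - y) by ring]
    exact Submodule.add_mem_sup (neg_mem (hle n _ (le_max_left _ _))) (Ideal.pow_le_pow_right (le_max_right _ _) h2)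
  have h2 : (⨅ N, Ideal.span {xh ^ (n + 1)} ⊔ maximalIdeal Rh ^ N) ≤ Ideal.span {xh ^ (n + 1)} := by
    intro w hw
    rw [← Ideal.Quotient.eq_zero_iff_mem]
    haveI : Nontrivial (Rh ⧸ Ideal.span {xh ^ (n + 1)}) := Ideal.Quotient.nontrivial_iff.2
      (ne_top_of_le_ne_top (maximalIdeal.isMaximal Rh).ne_top ((Ideal.span_singleton_le_iff_mem _).2
        (Ideal.pow_mem_of_mem _ hx _ n.succ_pos)))
    haveI : IsLocalRing (Rh ⧸ Ideal.span {xh ^ (n + 1)}) := IsLocalRing.of_surjective' _ Ideal.Quotient.mk_surjective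
    have hne : (maximalIdeal Rh).map (Ideal.Quotient.mk (Ideal.span {xh ^ (n + 1)})) ≠ ⊤ := by
      rw [← Groth.L01.maximalIdeal_quotient_eq_map]
      exact (maximalIdeal.isMaximal _).ne_top
    have h3 := Ideal.iInf_pow_eq_bot_of_isLocalRing _ hne
    rw [← Ideal.mem_bot, ← h3]
    refine Submodule.mem_iInf _ |>.2 fun N => ?_
    obtain ⟨p, hp, q, hq, rfl⟩ := Submodule.mem_sup.1 (Submodule.mem_iInf _ |>.1 hw N)
    rw [map_add, Ideal.Quotient.eq_zero_iff_mem.2 hp, zero_add, ← Ideal.map_pow]
    exact Ideal.mem_map_of_mem _ hq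
  obtain ⟨e, he⟩ := Ideal.mem_span_singleton'.1 (h2 h1)
  exact ⟨e, by linear_combination (-1) * he⟩

/-- Fractions with poles of order at most `n` along the arc. -/
def InU {T L : Type u} [CommRing T] [CommRing L] (can : T →+* L) (xt : T) (P : Ideal T) (n : ℕ) (I : Ideal T)
    (ξ : L) : Prop :=
  ∃ t ∈ I, ∃ q ∈ P, ξ * can xt ^ n = can (t * xt ^ n + q)

namespace InU

variable {T L : Type u} [CommRing T] [CommRing L] {can : T →+* L} {xt : T} {P : Ideal T} {n : ℕ} {I J : Ideal T}

theorem mono {ξ : L} (h : InU can xt P n I ξ) (hIJ : I ≤ J) {m : ℕ} (hnm : n ≤ m) : InU can xt P m J ξ := by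
  obtain ⟨t, ht, q, hq, he⟩ := h
  obtain ⟨j, rfl⟩ := Nat.exists_eq_add_of_le hnm
  refine ⟨t, hIJ ht, q * xt ^ j, Ideal.mul_mem_right _ _ hq, ?_⟩
  rw [pow_add, ← mul_assoc, he, map_add, map_mul, map_add, map_mul, map_mul, map_pow, map_pow, map_pow, pow_add]; ring

theorem ofCan {t : T} (ht : t ∈ I) : InU can xt P n I (can t) :=
  ⟨t, ht, 0, zero_mem _, by simp⟩

theorem add {ξ η : L} (h : InU can xt P n I ξ) (h' : InU can xt P n I η) : InU can xt P n I (ξ + η) := by
  obtain ⟨t, ht, q, hq, he⟩ := h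
  obtain ⟨t', ht', q', hq', he'⟩ := h'
  exact ⟨t + t', add_mem ht ht', q + q', add_mem hq hq', by rw [add_mul, he, he', ← map_add]; ring_nf⟩

variable (hP : P * P = ⊥) (hu : IsUnit (can xt))
include hP hu

theorem mul {ξ η : L} (h : InU can xt P n I ξ) (h' : InU can xt P n J η) : InU can xt P n (I * J) (ξ * η) := by
  obtain ⟨t, ht, q, hq, he⟩ := h
  obtain ⟨t', ht', q', hq', he'⟩ := h'
  have hqq : q * q' = 0 := by rw [← Ideal.mem_bot, ← hP]; exact Ideal.mul_mem_mul hq hq'
  refine ⟨t * t', Ideal.mul_mem_mul ht ht', t * q' + t' * q,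
    add_mem (Ideal.mul_mem_left _ _ hq') (Ideal.mul_mem_left _ _ hq), (hu.pow n).mul_left_cancel ?_⟩
  rw [show can xt ^ n * (ξ * η * can xt ^ n) = (ξ * can xt ^ n) * (η * can xt ^ n) by ring, he, he', ← map_pow,
    ← map_mul, ← map_mul]
  congr 1
  linear_combination hqq

theorem isUnit {ξ : L} {t : T} (ht : IsUnit t) {q : T} (hq : q ∈ P) (he : ξ * can xt ^ n = can (t * xt ^ n + q)) :
    ∃ η, ξ * η = 1 ∧ InU can xt P n ⊤ η := by
  obtain ⟨v, hv⟩ := ht.exists_left_inv
  obtain ⟨w, hw⟩ := (hu.pow n).exists_left_inv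
  refine ⟨can v - can (v * v * q) * w, ?_, v, trivial, -(v * v * q), neg_mem (Ideal.mul_mem_left _ _ hq), ?_⟩
  · have hqq : q * q = 0 := by rw [← Ideal.mem_bot, ← hP]; exact Ideal.mul_mem_mul hq hq
    refine ((hu.pow n).pow 2).mul_left_cancel ?_
    rw [show (can xt ^ n) ^ 2 * (ξ * (can v - can (v * v * q) * w)) =
      (ξ * can xt ^ n) * (can v * can xt ^ n - can (v * v * q) * (w * can xt ^ n)) by ring, hw, he, mul_one, mul_one,
      ← map_pow, ← map_pow, ← map_mul, ← map_sub, ← map_mul]
    congr 1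
    have hqq' : (v * v) * (q * q) = 0 := by rw [hqq, mul_zero]
    linear_combination (-1) * hqq' + (xt ^ (2 * n) - v * q * xt ^ n) * hv
  · simp only [map_add, map_neg, map_mul, map_pow]
    linear_combination (-(can v * can v * can q)) * hw

end InU

variable {φ : ∀ n, A n →+* A (n + 1)} {f : ∀ n, A n} {x : A 0}

/-- The arc of an infinite chain lies in the singular locus. -/
theorem ArcData.exists_arc (D : ArcData φ f x) (hx : x ∈ maximalIdeal (A 0)) {y₀ z₀ : A 0} (h₀ : Params x y₀ z₀)
    (ι : A 0 →+* Rh) [IsAdicComplete (maximalIdeal Rh) Rh] (hdim : ringKrullDim Rh = 3)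
    (hι : (maximalIdeal (A 0)).map ι = maximalIdeal Rh) :
    ∃ p q r, Params p q r ∧ ι (f 0) ∈ Ideal.span {p, q} ^ 2 := by
  classical
  choose next hnextY hnextZ using D.exists_next
  let pts : ∀ n, ArcData.Pt φ x n := fun n => Nat.rec
    (motive := fun n => ArcData.Pt φ x n)
    ⟨y₀, z₀, y₀, z₀, h₀, by simp [comp], by simp [comp]⟩ (fun n p => next n p) n
  have hpts : ∀ n, pts (n + 1) = next n (pts n) := fun n => rfl
  have hxm : ι x ∈ maximalIdeal Rh := hι ▸ Ideal.mem_map_of_mem ι hx
  obtain ⟨yi, hyi⟩ := exists_limit hxm (fun n => ι (pts n).Y) fun n => by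
    obtain ⟨a, ha⟩ := hnextY n (pts n)
    rw [hpts, ha, map_sub, map_mul, map_pow]
    exact Ideal.mem_span_singleton'.2 ⟨-ι a, by ring⟩
  obtain ⟨zi, hzi⟩ := exists_limit hxm (fun n => ι (pts n).Z) fun n => by
    obtain ⟨a, ha⟩ := hnextZ n (pts n)
    rw [hpts, ha, map_sub, map_mul, map_pow]
    exact Ideal.mem_span_singleton'.2 ⟨-ι a, by ring⟩
  have hPar : Params (ι x) yi zi := by
    obtain ⟨e, he⟩ := hyi 0
    obtain ⟨e', he'⟩ := hzi 0
    have he0 : ι y₀ = yi + ι x * e := by simpa using! he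
    have he0' : ι z₀ = zi + ι x * e' := by simpa using! he'
    have hm : ∀ {w}, w ∈ maximalIdeal (A 0) → ι w ∈ maximalIdeal Rh := fun hw => hι ▸ Ideal.mem_map_of_mem ι hw
    refine ⟨le_antisymm (Ideal.span_le.2 ?_) ?_, hdim⟩
    · rintro w (rfl | rfl | rfl)
      · exact hxm
      · rw [eq_sub_of_add_eq he0.symm]
        exact sub_mem (hm h₀.mem₂) (Ideal.mul_mem_right _ _ hxm)
      · rw [eq_sub_of_add_eq he0'.symm]
        exact sub_mem (hm h₀.mem₃) (Ideal.mul_mem_right _ _ hxm)
    · rw [← hι, ← h₀.span, Ideal.map_span, Ideal.span_le]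
      rintro _ ⟨w, (rfl | rfl | rfl), rfl⟩
      · exact Ideal.subset_span (by simp)
      · rw [he0]; exact add_mem (Ideal.subset_span (by simp)) (Ideal.mul_mem_right _ _ (Ideal.subset_span (by simp)))
      · rw [he0']; exact add_mem (Ideal.subset_span (by simp)) (Ideal.mul_mem_right _ _ (Ideal.subset_span (by simp)))
  refine ⟨yi, zi, ι x, hPar.swap.swap₂, ?_⟩
  -- the square-zero neighbourhood of the arc
  set P₀ := Ideal.span ({yi, zi} : Set Rh) with hP₀
  have hP₀p : P₀.IsPrime := by
    have h2 : P₀ = Ideal.span {yi} ⊔ Ideal.span {zi} := Ideal.span_insert _ _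
    obtain ⟨h1, -⟩ := Groth.L01.regular_quotient_of_notMem_sq hPar.mem₂ hPar.notMem_sq₂
    haveI := h1
    have hz : Ideal.Quotient.mk (Ideal.span {yi}) zi ∉ maximalIdeal (Rh ⧸ Ideal.span {yi}) ^ 2 := by
      rw [Groth.L01.maximalIdeal_quotient_eq_map (I := Ideal.span {yi}), ← Ideal.map_pow, Ideal.mem_map_iff_of_surjective _ Ideal.Quotient.mk_surjective]
      rintro ⟨w, hw, hwz⟩
      obtain ⟨r, hr⟩ := Ideal.mem_span_singleton'.1 (Ideal.Quotient.eq.1 hwz)
      have := (hPar.lin_eq (α := 0) (β := r) (γ := 1) (by convert hw using 1; linear_combination hr)).2.2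
      exact (maximalIdeal.isMaximal Rh).ne_top ((Ideal.eq_top_iff_one _).2 this)
    obtain ⟨h3, -⟩ := Groth.L01.regular_quotient_of_notMem_sq (x := Ideal.Quotient.mk (Ideal.span {yi}) zi) (by
      rw [Groth.L01.maximalIdeal_quotient_eq_map (I := Ideal.span {yi})]; exact Ideal.mem_map_of_mem _ hPar.mem₃) hz
    haveI := h3
    haveI := Groth.L01.isDomain_of_regular ((Rh ⧸ Ideal.span {yi}) ⧸ Ideal.span {Ideal.Quotient.mk (Ideal.span {yi}) zi})
    have h4 : Ideal.span {Ideal.Quotient.mk (Ideal.span {yi}) zi} = (Ideal.span {zi}).map (Ideal.Quotient.mk (Ideal.span {yi})) := by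
      rw [Ideal.map_span, Set.image_singleton]
    have h5 : ((Ideal.span {zi}).map (Ideal.Quotient.mk (Ideal.span {yi}))).IsPrime := h4 ▸ (Ideal.Quotient.isDomain_iff_prime _).1 inferInstance
    rw [h2, sup_comm]
    have := h5.comap (Ideal.Quotient.mk (Ideal.span {yi}))
    rwa [Ideal.comap_map_of_surjective' _ Ideal.Quotient.mk_surjective, Ideal.mk_ker] at this
  have hq2 : CAlgX.IsQuasiRegular ![yi, zi] := by
    have h := (Groth.L01.isRegular_of_ofList_eq_maximalIdeal ([yi, zi] ++ [ι x]) (by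
      rw [← hPar.span, Ideal.ofList]; congr 1; ext w; simp; tauto) (by rw [hdim]; simp)).toIsWeaklyRegular
    exact Groth.L07.QReg.isQuasiRegular_of_isWeaklyRegular (by
      simpa using ((RingTheory.Sequence.isWeaklyRegular_append_iff Rh _ _).1 h).1)
  have hrange : Ideal.span (Set.range ![yi, zi]) = P₀ := by
    rw [hP₀]; congr 1; ext w; simp [Matrix.range_cons, Matrix.range_empty, or_comm]
  have hxnP : ι x ∉ P₀ := fun h => by
    obtain ⟨α, β, he⟩ := Ideal.mem_span_pair.1 h
    have := (hPar.lin_eq (α := 1) (β := -α) (γ := -β) (by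
      rw [show 1 * ι x + -α * yi + -β * zi = (0 : Rh) by linear_combination (-1) * he]; exact zero_mem _)).1
    exact (maximalIdeal.isMaximal Rh).ne_top ((Ideal.eq_top_iff_one _).2 this)
  let T := Rh ⧸ P₀ ^ 2
  let π : Rh →+* T := Ideal.Quotient.mk _
  let L := Localization.Away (π (ι x))
  let can : T →+* L := algebraMap T L
  set xt : T := π (ι x) with hxt
  set P : Ideal T := P₀.map π
  have hPP : P * P = ⊥ := by rw [← Ideal.map_mul, ← pow_two]; exact Ideal.map_quotient_self _
  have hreg : xt ∈ nonZeroDivisors T := mem_nonZeroDivisors_iff_right.2 fun w hw => by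
    obtain ⟨w, rfl⟩ := Ideal.Quotient.mk_surjective w
    rw [hxt, ← map_mul, Ideal.Quotient.eq_zero_iff_mem, ← hrange] at hw
    rw [Ideal.Quotient.eq_zero_iff_mem, ← hrange]
    refine Groth.L07.QReg.mem_pow_of_mul_mem_pow hq2 (g := ι x) (fun v hv => ?_) 2 (by rwa [mul_comm])
    rw [hrange] at hv ⊢
    exact (hP₀p.mem_or_mem hv).resolve_left hxnP
  have hu : IsUnit (can xt) := IsLocalization.Away.algebraMap_isUnit xt
  have hcinj : Function.Injective can := IsLocalization.injective L (Submonoid.powers_le.2 hreg)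
  let κ : A 0 →+* L := can.comp (π.comp ι)
  -- the maps to the neighbourhood
  have main : ∀ n, ∃ θ : A n →+* L, θ.comp (comp φ n) = κ ∧ (∀ w, InU can xt P n ⊤ (θ w)) ∧
      ∀ w ∈ maximalIdeal (A n), InU can xt P n (Ideal.span {xt}) (θ w) := by
    intro n
    induction n with
    | zero =>
      refine ⟨κ, rfl, fun w => InU.ofCan trivial, fun w hw => ?_⟩
      have hw' : π (ι w) ∈ (maximalIdeal Rh).map π := Ideal.mem_map_of_mem _ (hι ▸ Ideal.mem_map_of_mem ι hw)
      rw [← hPar.span, Ideal.map_span, Set.image_insert_eq, Ideal.mem_span_insert, ← Ideal.map_span] at hw'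
      obtain ⟨α, p, hp, he⟩ := hw'
      exact ⟨α * xt, Ideal.mem_span_singleton'.2 ⟨α, rfl⟩, p, hp, by simp [κ, xt, he]⟩
    | succ n ih =>
      obtain ⟨θ, hθc, hθ, hθm⟩ := ih
      set p := pts n
      set x' := φ n (comp φ n x)
      have hB := (D.link n).blow
      have hP' := D.param n
      have hθx : θ (comp φ n x) = can xt := congrArg (fun g : _ →+* _ => g x) hθc
      -- elements of order `j`
      have key : ∀ j (g : A n), g ∈ maximalIdeal (A n) ^ j → ∃ (ξ : L) (g' : A (n + 1)) (r : A 0) (δ : L),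
          φ n g = x' ^ j * g' ∧ θ g = can xt ^ j * ξ ∧ g' - comp φ (n + 1) r ∈ maximalIdeal (A (n + 1)) ∧
          InU can xt P (n + 1) (Ideal.span {xt}) δ ∧ ξ = κ r + δ := by
        intro j
        induction j with
        | zero =>
          intro g _
          obtain ⟨r, hr⟩ := D.res_comp n g
          refine ⟨θ g, φ n g, r, θ (g - comp φ n r), by simp, by simp, ?_, (hθm _ hr).mono le_rfl n.le_succ, ?_⟩
          · rw [comp_succ, ← map_sub]; exact hB.map_mem hr
          · rw [map_sub, show θ (comp φ n r) = κ r from congrArg (fun g : _ →+* _ => g r) hθc]; ring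
        | succ j ihj =>
          intro g hg
          rw [pow_succ] at hg
          induction hg using Submodule.mul_induction_on' with
          | add g₁ _ g₂ _ h₁ h₂ =>
            obtain ⟨ξ, g', r, δ, e₁, e₂, e₃, e₄, e₅⟩ := h₁
            obtain ⟨ξ', g'', r', δ', e₁', e₂', e₃', e₄', e₅'⟩ := h₂
            exact ⟨ξ + ξ', g' + g'', r + r', δ + δ', by rw [map_add, e₁, e₁']; ring, by rw [map_add, e₂, e₂']; ring,
              by rw [map_add, add_sub_add_comm]; exact add_mem e₃ e₃', e₄.add e₄', by rw [e₅, e₅', map_add]; ring⟩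
          | mem_mul_mem g₁ hg₁ w hw =>
            obtain ⟨ξ, g', r, δ, e₁, e₂, e₃, e₄, e₅⟩ := ihj g₁ hg₁
            obtain ⟨α, β, γ, rfl⟩ := p.params.exists_lin hw
            have hbase : ∀ {y : A n} {Y Y' : A 0} {w' : A (n + 1)} {yl : Rh}, comp φ n Y = comp φ n x ^ n * y →
                comp φ (n + 1) Y' = comp φ (n + 1) x ^ (n + 1) * w' → w' ∈ maximalIdeal (A (n + 1)) →
                (∃ a, Y' = Y - a * x ^ (n + 1)) → yl ∈ P₀ → (∃ e, ι Y = yl + ι x ^ (n + 1) * e) →
                (∃ e, ι Y' = yl + ι x ^ (n + 2) * e) →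
                ∃ (a : A 0) (η : L), φ n y = x' * (comp φ (n + 1) a + w') ∧ θ y = can xt * (κ a + η) ∧
                  InU can xt P (n + 1) (Ideal.span {xt}) η := by
              intro y Y Y' w' yl hY hY' _ ⟨a, ha⟩ hyl ⟨e, he⟩ ⟨e', he'⟩
              haveI := Groth.L01.isDomain_of_regular (A (n + 1))
              obtain ⟨iv, hiv⟩ := (hu.pow (n + 1)).exists_left_inv
              refine ⟨a, can (π (ι x * e')) + can (π yl) * iv, hB.cancel hP' (n := n) ?_, (hu.pow n).mul_left_cancel ?_,
                π (ι x * e'), ?_, π yl, Ideal.mem_map_of_mem _ hyl, ?_⟩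
              · have h1 := congrArg (φ n) hY
                rw [map_mul, map_pow, ← comp_succ] at h1
                rw [ha, map_sub, map_mul, map_pow, h1] at hY'
                simp only [x', comp_succ] at hY' ⊢
                linear_combination hY'
              · have h1 : θ (comp φ n Y) = κ Y := congrArg (fun g : _ →+* _ => g Y) hθc
                rw [hY, map_mul, map_pow, hθx] at h1
                rw [h1]
                have h2 : ι Y = yl + ι x ^ (n + 1) * (ι a + ι x * e') := by
                  rw [ha, map_sub, map_mul, map_pow] at he'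
                  linear_combination he'
                show can (π (ι Y)) = _
                rw [h2]
                simp only [map_add, map_mul, map_pow, κ, RingHom.comp_apply, xt]
                linear_combination (-(can (π yl))) * hiv
              · rw [map_mul]; exact Ideal.mul_mem_right _ _ (Ideal.mem_span_singleton_self _)
              · simp only [map_add, map_mul, map_pow, xt]
                linear_combination (can (π yl)) * hiv
            obtain ⟨a, ηy, ey₁, ey₂, ey₃⟩ := hbase p.eqY (pts (n + 1)).eqY (pts (n + 1)).params.mem₂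
              (hnextY n p) (Ideal.subset_span (by simp)) (hyi n) (hyi (n + 1))
            obtain ⟨b, ηz, ez₁, ez₂, ez₃⟩ := hbase p.eqZ (pts (n + 1)).eqZ (pts (n + 1)).params.mem₃
              (hnextZ n p) (Ideal.subset_span (by simp)) (hzi n) (hzi (n + 1))
            obtain ⟨α₀, hα⟩ := D.res_comp n α
            obtain ⟨β₀, hβ⟩ := D.res_comp n β
            obtain ⟨γ₀, hγ⟩ := D.res_comp n γ
            have hdec : ∀ {q : A n} {q₀ : A 0}, q - comp φ n q₀ ∈ maximalIdeal (A n) →
                ∃ η, InU can xt P (n + 1) (Ideal.span {xt}) η ∧ θ q = κ q₀ + η := fun {q q₀} h =>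
              ⟨θ (q - comp φ n q₀), (hθm _ h).mono le_rfl n.le_succ, by
                rw [map_sub, show θ (comp φ n q₀) = κ q₀ from congrArg (fun g : _ →+* _ => g q₀) hθc]; ring⟩
            obtain ⟨ηα, hηα, eα⟩ := hdec hα
            obtain ⟨ηβ, hηβ, eβ⟩ := hdec hβ
            obtain ⟨ηγ, hηγ, eγ⟩ := hdec hγ
            set wy := (pts (n + 1)).y
            set wz := (pts (n + 1)).z
            refine ⟨ξ * (θ α + θ β * (κ a + ηy) + θ γ * (κ b + ηz)),
              g' * (φ n α + φ n β * (comp φ (n + 1) a + wy) + φ n γ * (comp φ (n + 1) b + wz)),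
              r * (α₀ + β₀ * a + γ₀ * b),
              δ * (θ α + θ β * (κ a + ηy) + θ γ * (κ b + ηz)) + κ r * (ηα + (ηβ * κ a + θ β * ηy) + (ηγ * κ b + θ γ * ηz)),
              ?_, ?_, ?_, ?_, ?_⟩
            · rw [map_mul, e₁]; simp only [map_add, map_mul, ey₁, ez₁]; ring
            · rw [map_mul, e₂]; simp only [map_add, map_mul, hθx, ey₂, ez₂]; ring
            · have hmod : Ideal.Quotient.mk (maximalIdeal (A (n + 1))) g' = Ideal.Quotient.mk _ (comp φ (n + 1) r) :=
                Ideal.Quotient.eq.2 e₃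
              have hz : ∀ {q : A n} {q₀ : A 0}, q - comp φ n q₀ ∈ maximalIdeal (A n) →
                  Ideal.Quotient.mk (maximalIdeal (A (n + 1))) (φ n q) = Ideal.Quotient.mk _ (comp φ (n + 1) q₀) :=
                fun h => Ideal.Quotient.eq.2 (by rw [comp_succ, ← map_sub]; exact hB.map_mem h)
              rw [← Ideal.Quotient.eq]
              simp only [map_mul, map_add, hmod, hz hα, hz hβ, hz hγ,
                Ideal.Quotient.eq_zero_iff_mem.2 (pts (n + 1)).params.mem₂,
                Ideal.Quotient.eq_zero_iff_mem.2 (pts (n + 1)).params.mem₃, add_zero, wy, wz]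
            · have hmul : ∀ {I : Ideal T} {ζ η : L}, InU can xt P (n + 1) ⊤ ζ → InU can xt P (n + 1) I η →
                  InU can xt P (n + 1) I (ζ * η) := fun h h' => (InU.mul hPP hu h h').mono Ideal.mul_le_right le_rfl
              have hk : ∀ q, InU can xt P (n + 1) ⊤ (κ q) := fun q => InU.ofCan trivial
              have ht : ∀ q, InU can xt P (n + 1) ⊤ (θ q) := fun q => (hθ q).mono le_rfl n.le_succ
              refine InU.add ?_ (hmul (hk r) ((hηα.add ((mul_comm (κ a) ηβ ▸ hmul (hk a) hηβ).add (hmul (ht β) ey₃))).add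
                ((mul_comm (κ b) ηγ ▸ hmul (hk b) hηγ).add (hmul (ht γ) ez₃))))
              rw [mul_comm δ]
              exact hmul (((ht α).add (hmul (ht β) ((hk a).add (ey₃.mono le_top le_rfl)))).add
                (hmul (ht γ) ((hk b).add (ez₃.mono le_top le_rfl)))) e₄
            · rw [e₅, eα, eβ, eγ]; simp only [map_add, map_mul]; ring
      -- denominators become units
      have hden : ∀ {j : ℕ} {d : A n}, d ∈ maximalIdeal (A n) ^ j →
          Ideal.span {φ n d} = (maximalIdeal (A n)).map (φ n) ^ j →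
          ∃ (ξ η : L), θ d = can xt ^ j * ξ ∧ ξ * η = 1 ∧ InU can xt P (n + 1) ⊤ η := by
        intro j d hd hspan
        obtain ⟨ξ, g', r, δ, e₁, e₂, e₃, e₄, e₅⟩ := key j d hd
        haveI := Groth.L01.isDomain_of_regular (A (n + 1))
        rw [Blow.mapPow_eq hP', e₁, Ideal.span_singleton_eq_span_singleton] at hspan
        obtain ⟨v, hv⟩ := hspan
        have hg' : IsUnit g' := IsUnit.of_mul_eq_one_right (↑v) (hB.cancel hP' (n := j) (by rw [← mul_assoc] ; linear_combination hv))
        have hr : IsUnit r := by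
          by_contra hr
          refine notMem_of_isUnit hg' ?_
          have hcm : ∀ m, ∀ w ∈ maximalIdeal (A 0), comp φ m w ∈ maximalIdeal (A m) := by
            intro m
            induction m with
            | zero => exact fun w hw => hw
            | succ m ihm => exact fun w hw => (D.link m).blow.map_mem (ihm w hw)
          have := add_mem e₃ (hcm (n + 1) r ((IsLocalRing.mem_maximalIdeal _).2 hr))
          simpa using this
        obtain ⟨t, ht, q, hq, he⟩ := e₄
        have hT : IsUnit (π (ι r) + t) := by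
          obtain ⟨v', rfl⟩ := Ideal.mem_span_singleton'.1 ht
          obtain ⟨v₀, rfl⟩ := Ideal.Quotient.mk_surjective v'
          rw [hxt, ← map_mul, ← map_add]
          refine (isUnit_of_notMem fun h => notMem_of_isUnit (hr.map ι) ?_).map π
          simpa using sub_mem h (Ideal.mul_mem_left _ v₀ hxm)
        obtain ⟨η, hη, hη'⟩ := InU.isUnit hPP hu (ξ := ξ) hT hq (by
          rw [e₅, add_mul, he]; simp only [κ, RingHom.comp_apply, map_add, map_mul, map_pow]; ring)
        exact ⟨ξ, η, e₂, hη, hη'⟩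
      choose nn cc dd hcc hdd hsp heq using hB.frac
      have hunit : ∀ r, IsUnit (θ (dd r)) := fun r => by
        obtain ⟨ξ, η, h1, h2, -⟩ := hden (hdd r) (hsp r)
        rw [h1]; exact (hu.pow _).mul (IsUnit.of_mul_eq_one _ h2)
      let ev : A (n + 1) → L := fun r => θ (cc r) * ↑(hunit r).unit⁻¹
      have hev : ∀ {r : A (n + 1)} {c d : A n}, r * φ n d = φ n c → ev r * θ d = θ c := fun {r c d} h => by
        haveI := Groth.L01.isDomain_of_regular (A (n + 1))
        have h1 : cc r * d = c * dd r := hB.inj (by rw [map_mul, map_mul, ← heq r, ← h]; ring)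
        refine (hunit r).mul_left_cancel ?_
        rw [show θ (dd r) * (ev r * θ d) = (θ (cc r) * θ d) * (θ (dd r) * ↑(hunit r).unit⁻¹) by simp only [ev]; ring,
          IsUnit.mul_val_inv, mul_one, ← map_mul, h1, map_mul, mul_comm]
      let θ' : A (n + 1) →+* L :=
        { toFun := ev
          map_one' := by
            have := hev (r := 1) (c := 1) (d := 1) (by simp)
            simpa using this
          map_zero' := by
            have := hev (r := 0) (c := 0) (d := 1) (by simp)
            simpa using this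
          map_mul' := fun r s => by
            refine ((hunit r).mul (hunit s)).mul_right_cancel ?_
            have h := hev (r := r * s) (c := cc r * cc s) (d := dd r * dd s) (by
              rw [map_mul, map_mul, ← heq r, ← heq s]; ring)
            rw [← map_mul θ, h, map_mul, map_mul, ← hev (heq r), ← hev (heq s)]; ring
          map_add' := fun r s => by
            refine ((hunit r).mul (hunit s)).mul_right_cancel ?_
            have h := hev (r := r + s) (c := cc r * dd s + cc s * dd r) (d := dd r * dd s) (by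
              rw [map_add, map_mul, map_mul, map_mul, ← heq r, ← heq s]; ring)
            rw [← map_mul θ, h, map_add, map_mul, map_mul, map_mul, ← hev (heq r), ← hev (heq s)]; ring }
      have hφ : ∀ w, θ' (φ n w) = θ w := fun w => by
        have := hev (r := φ n w) (c := w) (d := 1) (by simp)
        simpa using! this
      refine ⟨θ', RingHom.ext fun w => (hφ _).trans (congrArg (fun g : _ →+* _ => g w) hθc), fun r => ?_, fun r hr => ?_⟩
      all_goals
        obtain ⟨ξ, g', rc, δ, e₁, e₂, e₃, e₄, e₅⟩ := key (nn r) (cc r) (hcc r)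
        obtain ⟨ξd, η, hd₁, hd₂, hd₃⟩ := hden (hdd r) (hsp r)
        have hval : θ' r = ξ * η := (hunit r).mul_right_cancel (by
          show ev r * θ (dd r) = _
          rw [hev (heq r), e₂, hd₁]; linear_combination (-(can xt ^ nn r * ξ)) * hd₂)
        rw [hval, e₅]
      · exact (InU.mul hPP hu ((InU.ofCan (I := ⊤) trivial).add (e₄.mono le_top le_rfl)) hd₃).mono le_top le_rfl
      · have hrc : rc ∈ maximalIdeal (A 0) := by
          by_contra hrc
          obtain ⟨v, hv⟩ := Ideal.mem_span_singleton'.1 ((hsp r).le.trans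
            (Blow.mapPow_eq hP' (nn r)).le (Ideal.mem_span_singleton_self _))
          have hg : g' = r * v := hB.cancel hP' (n := nn r) (by rw [← e₁, ← heq r, ← hv]; ring)
          have h2 := sub_mem (hg ▸ Ideal.mul_mem_right v _ hr : g' ∈ maximalIdeal (A (n + 1))) e₃
          rw [sub_sub_cancel] at h2
          exact notMem_of_isUnit ((isUnit_of_notMem hrc).map _) h2
        have hrm : InU can xt P (n + 1) (Ideal.span {xt}) (κ rc) := by
          have hw' : π (ι rc) ∈ (maximalIdeal Rh).map π := Ideal.mem_map_of_mem _ (hι ▸ Ideal.mem_map_of_mem ι hrc)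
          rw [← hPar.span, Ideal.map_span, Set.image_insert_eq, Ideal.mem_span_insert, ← Ideal.map_span] at hw'
          obtain ⟨α, p', hp', he⟩ := hw'
          refine (show InU can xt P 0 (Ideal.span {xt}) (κ rc) from
            ⟨α * xt, Ideal.mem_span_singleton'.2 ⟨α, rfl⟩, p', hp', by simp [κ, xt, he]⟩).mono le_rfl (Nat.zero_le _)
        exact (InU.mul hPP hu (hrm.add e₄) hd₃).mono Ideal.mul_le_left le_rfl
  -- the conclusion
  have hf : ∀ n, comp φ n (f 0) ∈ Ideal.span {comp φ n x ^ (2 * n)} * Ideal.span {f n} := by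
    intro n
    induction n with
    | zero => simpa [comp] using Ideal.mem_span_singleton_self (f 0)
    | succ n ih =>
      rw [Ideal.span_singleton_mul_span_singleton] at ih ⊢
      obtain ⟨c, hc⟩ := Ideal.mem_span_singleton'.1 ih
      have h := (D.link n).eq.le (Ideal.mem_span_singleton_self (φ n (f n)))
      rw [Blow.mapPow_eq (D.param n), Ideal.span_singleton_mul_span_singleton] at h
      obtain ⟨e, he⟩ := Ideal.mem_span_singleton'.1 h
      refine Ideal.mem_span_singleton'.2 ⟨φ n c * e, ?_⟩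
      simp only [comp_succ]
      rw [← hc, map_mul, map_mul, map_pow, ← he]
      ring
  have hmem : ∀ n, π (ι (f 0)) ∈ Ideal.span {xt ^ (n + 1)} := by
    intro n
    obtain ⟨θ, hθc, -, hθm⟩ := main n
    obtain ⟨c, hc⟩ : ∃ c ∈ maximalIdeal (A n) ^ 2, comp φ n (f 0) = comp φ n x ^ (2 * n) * c := by
      have := hf n
      rw [Ideal.span_singleton_mul_span_singleton] at this
      obtain ⟨e, he⟩ := Ideal.mem_span_singleton'.1 this
      have hs : f n ∈ maximalIdeal (A n) ^ 2 := (D.link n).mem
      exact ⟨e * f n, Ideal.mul_mem_left _ _ hs, by rw [← he]; ring⟩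
    have h2 : ∀ c ∈ maximalIdeal (A n) ^ 2, ∃ t, θ c * can xt ^ (2 * n) = can (xt ^ (n + 1) * t) := by
      intro c hc
      rw [pow_two] at hc
      induction hc using Submodule.mul_induction_on' with
      | add c₁ _ c₂ _ h₁ h₂ =>
        obtain ⟨t₁, e₁⟩ := h₁
        obtain ⟨t₂, e₂⟩ := h₂
        exact ⟨t₁ + t₂, by rw [map_add, add_mul, e₁, e₂, ← map_add, mul_add]⟩
      | mem_mul_mem p hp q hq =>
        obtain ⟨t, ht, u, hu', he⟩ := hθm p hp
        obtain ⟨t', ht', u', hu'', he'⟩ := hθm q hq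
        obtain ⟨s, rfl⟩ := Ideal.mem_span_singleton'.1 ht
        obtain ⟨s', rfl⟩ := Ideal.mem_span_singleton'.1 ht'
        have huu : u * u' = 0 := by rw [← Ideal.mem_bot, ← hPP]; exact Ideal.mul_mem_mul hu' hu''
        refine ⟨s * s' * xt ^ (n + 1) + s * u' + s' * u, ?_⟩
        rw [map_mul, show θ p * θ q * can xt ^ (2 * n) = (θ p * can xt ^ n) * (θ q * can xt ^ n) by ring, he, he', ← map_mul]
        congr 1
        linear_combination huu
    obtain ⟨t, ht⟩ := h2 c hc.1
    have h3 : θ (comp φ n (f 0)) = κ (f 0) := congrArg (fun g : _ →+* _ => g (f 0)) hθc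
    rw [hc.2, map_mul, map_pow, show θ (comp φ n x) = κ x from congrArg (fun g : _ →+* _ => g x) hθc] at h3
    refine Ideal.mem_span_singleton'.2 ⟨t, hcinj ?_⟩
    rw [mul_comm, ← ht, show κ (f 0) = can (π (ι (f 0))) from rfl] at *
    rw [← h3]; simp [κ, xt]; ring
  have hbot : π (ι (f 0)) ∈ ⨅ N : ℕ, Ideal.span {xt} ^ N := Submodule.mem_iInf _ |>.2 fun N => by
    rw [Ideal.span_singleton_pow]
    exact (Ideal.span_singleton_le_span_singleton.2 (pow_dvd_pow xt (Nat.le_succ N))) (hmem N)
  haveI : Nontrivial T := Ideal.Quotient.nontrivial_iff.2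
    (ne_top_of_le_ne_top hP₀p.ne_top (Ideal.pow_le_self two_ne_zero))
  haveI : IsLocalRing T := IsLocalRing.of_surjective' π Ideal.Quotient.mk_surjective
  have hne : Ideal.span {xt} ≠ ⊤ := by
    refine ne_top_of_le_ne_top (maximalIdeal.isMaximal T).ne_top ((Ideal.span_singleton_le_iff_mem _).2 ?_)
    rw [hxt, Groth.L01.maximalIdeal_quotient_eq_map]
    exact Ideal.mem_map_of_mem _ hxm
  rw [Ideal.iInf_pow_eq_bot_of_isLocalRing _ hne, Ideal.mem_bot, Ideal.Quotient.eq_zero_iff_mem] at hbot
  exact hbot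

end Arc

end Groth.L05.RDP
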