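import Mathlib.Algebra.MvPolynomial.Equiv
import Mathlib.Algebra.MvPolynomial.PDeriv
import Mathlib.Algebra.Polynomial.AlgebraMap
import Mathlib.Algebra.Polynomial.Div
import Mathlib.Algebra.CharP.Two
import Mathlib.FieldTheory.Perfect
import Mathlib.LinearAlgebra.Dual.Lemmas
import Mathlib.RingTheory.Jacobson.Ring
import Mathlib.Tactic

/-! Singular points of plane conics over an arbitrary field. -/

set_option autoImplicit false
set_option linter.style.haveILetI false

universe u

namespace Groth.L05.RDP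

variable {k : Type u} [Field k]

section Tower

open Polynomial

theorem map_sq_le_of_le {A B : Type*} [CommRing A] [CommRing B] (f : A →+* B) {I : Ideal A} {J : Ideal B}
    (h : ∀ z ∈ I, f z ∈ J) {z : A} (hz : z ∈ I ^ 2) : f z ∈ J ^ 2 :=
  Ideal.pow_right_mono (Ideal.map_le_iff_le_comap.2 h) 2
    ((Ideal.map_pow f I 2).le (Ideal.mem_map_of_mem f hz))

/-- A conic `X ^ 2 = c T ^ 2 + e` in characteristic two is singular only at rational points,
unless it is a double line. -/
theorem conic_char_two [CharP k 2] (c e : k) (hns : ¬ ((∃ a, a ^ 2 = c) ∧ ∃ a, a ^ 2 = e))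
    (P : Ideal k[X][X]) [hP : P.IsMaximal]
    (h : X ^ 2 + C (C c * X ^ 2 + C e) ∈ P ^ 2) :
    ∃ a b : k, X - C (C a) ∈ P ∧ C (X - C b) ∈ P := by
  classical
  set r₀ : k[X] := C c * X ^ 2 + C e with hr₀
  set q : k[X][X] := X ^ 2 + C r₀ with hq
  have hqm : q.Monic := monic_X_pow_add_C r₀ two_ne_zero
  have hqdeg : q.natDegree = 2 := natDegree_X_pow_add_C
  have hqP : q ∈ P := Ideal.pow_le_self two_ne_zero h
  set I : Ideal k[X] := P.comap (C : k[X] →+* k[X][X]) with hI
  haveI : I.IsMaximal := Polynomial.isMaximal_comap_C_of_isJacobsonRing P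
  obtain ⟨p, hp⟩ := (IsPrincipalIdealRing.principal I).principal
  have hIp : ∀ z, C z ∈ P ↔ p ∣ z := fun z => by
    rw [← Ideal.mem_comap, ← hI, hp]; exact Ideal.mem_span_singleton
  by_cases hw : ∃ w : k[X], X - C w ∈ P
  · obtain ⟨w, hw⟩ := hw
    set r : k[X] := w ^ 2 + r₀ with hr
    have hval : ∀ z ∈ P, evalRingHom w z ∈ I := fun z hz => by
      have h1 : z - C (z.eval w) ∈ P := by
        obtain ⟨d, hd⟩ := X_sub_C_dvd_sub_C_eval (a := w) (p := z)
        rw [hd]; exact P.mul_mem_right _ hw
      exact (Ideal.mem_comap).2 (by simpa using sub_mem hz h1)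
    have h2 : p ^ 2 ∣ r := by
      have := map_sq_le_of_le (evalRingHom w) hval h
      rw [hp, show Submodule.span k[X] {p} = Ideal.span {p} from rfl, Ideal.span_singleton_pow,
        Ideal.mem_span_singleton] at this
      simpa [hr, hq] using this
    obtain ⟨s, hs⟩ := h2
    -- a functional vanishing on the squares, but not on both coefficients
    let F : Subfield k := (frobenius k 2).fieldRange
    have hF : ∀ x : k, x ∈ F ↔ ∃ a, a ^ 2 = x := fun x => by
      simp [F, RingHom.mem_fieldRange, frobenius_def]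
    obtain ⟨v, hv, hv'⟩ : ∃ v, v ∉ F ∧ (v = c ∨ v = e) := by
      by_cases hc : c ∈ F
      · exact ⟨e, fun he => hns ⟨(hF c).1 hc, (hF e).1 he⟩, Or.inr rfl⟩
      · exact ⟨c, hc, Or.inl rfl⟩
    have hvs : v ∉ Submodule.span F ({1} : Set k) := by
      rw [Submodule.mem_span_singleton]
      rintro ⟨a, ha⟩
      refine hv ?_
      rw [← ha]
      simp [Subfield.smul_def]
    obtain ⟨φ, hφv, hφ1⟩ := Submodule.exists_dual_map_eq_bot_of_notMem hvs inferInstance
    have hφ1' : φ 1 = 0 := by
      have : φ 1 ∈ Submodule.map φ (Submodule.span F ({1} : Set k)) :=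
        Submodule.mem_map_of_mem (Submodule.mem_span_singleton_self 1)
      rwa [hφ1, Submodule.mem_bot] at this
    let ψ : k →+ k :=
      { toFun := fun x => (φ x : k), map_zero' := by simp, map_add' := fun x y => by simp }
    let Φ : k[X] → k[X] := fun z => z.sum fun i a => monomial i (ψ a)
    have hΦc : ∀ z i, (Φ z).coeff i = ψ (z.coeff i) := fun z i => by
      simp only [Φ, Polynomial.sum, finsetSum_coeff, coeff_monomial, Finset.sum_ite_eq', mem_support_iff]
      split_ifs with h
      · rfl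
      · rw [not_not.1 h, map_zero]
    have hψ : ∀ a x, a ∈ F → ψ (a * x) = a * ψ x := fun a x ha => by
      show ((φ (a * x) : F) : k) = a * (φ x : k)
      rw [show a * x = (⟨a, ha⟩ : F) • x from rfl, map_smul]
      rfl
    have hΦmul : ∀ y z : k[X], (∀ i, y.coeff i ∈ F) → Φ (y * z) = y * Φ z := fun y z hy => by
      ext i
      rw [hΦc, coeff_mul, coeff_mul, map_sum]
      exact Finset.sum_congr rfl fun j _ => by rw [hψ _ _ (hy _), hΦc]
    have hsq : ∀ (y : k[X]) i, (y ^ 2).coeff i ∈ F := fun y i => by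
      rw [show y ^ 2 = expand k 2 (y.map (frobenius k 2)) from (map_frobenius_expand 2 y).symm.trans
        map_expand, coeff_expand two_pos]
      split_ifs with hd
      · rw [coeff_map]; exact ⟨_, rfl⟩
      · exact zero_mem F
    have hΦw : Φ (w ^ 2) = 0 := by
      ext i
      rw [hΦc, coeff_zero]
      have : ψ ((w ^ 2).coeff i * 1) = (w ^ 2).coeff i * ψ 1 := hψ _ _ (hsq w i)
      rw [mul_one] at this
      rw [this, show ψ 1 = 0 by show ((φ 1 : F) : k) = 0; rw [hφ1']; rfl, mul_zero]
    have key : C (ψ c) * X ^ 2 + C (ψ e) = p ^ 2 * Φ s := by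
      rw [← hΦmul _ _ (hsq p), ← hs]
      ext i
      rw [hΦc, hr, hr₀, coeff_add (p := w ^ 2), map_add, show ψ ((w ^ 2).coeff i) = 0 by rw [← hΦc, hΦw, coeff_zero],
        zero_add]
      simp only [coeff_add, coeff_C_mul, coeff_X_pow, coeff_C]
      split_ifs <;> simp
    have hne : C (ψ c) * X ^ 2 + C (ψ e) ≠ 0 := by
      intro h0
      have h2 := congrArg (fun z : k[X] => z.coeff 2) h0
      have h0' := congrArg (fun z : k[X] => z.coeff 0) h0
      simp at h2 h0'
      refine hφv (Subtype.ext ?_)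
      rcases hv' with rfl | rfl
      · exact h2
      · exact h0'
    have hp0 : p ≠ 0 := by rintro rfl; exact hne (by rw [key]; simp)
    have hdeg : p.natDegree ≤ 1 := by
      have h1 : (p ^ 2 * Φ s).natDegree ≤ 2 := by rw [← key]; compute_degree
      have hs0 : Φ s ≠ 0 := fun h0 => hne (by rw [key, h0, mul_zero])
      rw [natDegree_mul (pow_ne_zero _ hp0) hs0, natDegree_pow] at h1
      omega
    have hpu : ¬ IsUnit p := fun hu => Ideal.IsMaximal.ne_top ‹I.IsMaximal›
      (hp ▸ Ideal.span_singleton_eq_top.2 hu)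
    have hdeg1 : p.degree = 1 := by
      rcases Nat.le_one_iff_eq_zero_or_eq_one.1 hdeg with h0 | h1
      · exact absurd (isUnit_iff_degree_eq_zero.2 (by rw [degree_eq_natDegree hp0, h0]; rfl)) hpu
      · rw [degree_eq_natDegree hp0, h1]; rfl
    obtain ⟨b, hb⟩ := exists_root_of_degree_eq_one hdeg1
    have hb' : p ∣ X - C b := by
      obtain ⟨d, hd⟩ := dvd_iff_isRoot.2 hb
      have hd1 : (X - C b).degree + d.degree = 1 := by rw [← degree_mul, ← hd, hdeg1]
      rw [degree_X_sub_C] at hd1
      have hd0 : d.degree = 0 := by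
        have hdne : d ≠ 0 := fun h0 => hp0 (by rw [hd, h0, mul_zero])
        rw [degree_eq_natDegree hdne] at hd1 ⊢
        norm_cast at hd1 ⊢
        omega
      rw [hd]
      exact (IsUnit.mul_right_dvd (isUnit_iff_degree_eq_zero.2 hd0)).2 dvd_rfl
    refine ⟨w.eval b, b, ?_, (hIp _).2 hb'⟩
    have h3 : C (w - C (w.eval b)) ∈ P := by
      obtain ⟨d, hd⟩ := X_sub_C_dvd_sub_C_eval (a := b) (p := w)
      rw [hd, map_mul]
      exact P.mul_mem_right _ ((hIp _).2 hb')
    have := add_mem hw h3
    rwa [show X - C w + C (w - C (w.eval b)) = X - C (C (w.eval b)) by rw [map_sub]; ring] at this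
  · exfalso
    push Not at hw
    have hp0 : p ≠ 0 := by
      rintro rfl
      have : I = ⊥ := by rw [hp]; simp
      exact Ring.ne_bot_of_isMaximal_of_not_isField ‹I.IsMaximal› (Polynomial.not_isField k) this
    -- `P` is generated by `p` and `q`
    have hPle : P ≤ Ideal.span {C p, q} := by
      intro z hz
      have hzmod : z %ₘ q ∈ P := by
        rw [modByMonic_eq_sub_mul_div z q]; exact sub_mem hz (P.mul_mem_right _ hqP)
      have hlt : (z %ₘ q).natDegree < 2 := hqdeg ▸ natDegree_modByMonic_lt z hqm (by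
        intro h1; rw [h1, natDegree_one] at hqdeg; omega)
      have hform : z %ₘ q = C ((z %ₘ q).coeff 1) * X + C ((z %ₘ q).coeff 0) :=
        eq_X_add_C_of_natDegree_le_one (by omega)
      set z₁ := (z %ₘ q).coeff 1
      set z₀ := (z %ₘ q).coeff 0
      have h1 : p ∣ z₁ := by
        by_contra hcon
        obtain ⟨v, i, hi, hv⟩ := Ideal.IsMaximal.exists_inv ‹I.IsMaximal› (x := z₁) (fun hm => hcon ((hIp _).1 hm))
        refine hw (-(v * z₀)) ?_
        have hzero : C v * (z %ₘ q) + C i * X ∈ P :=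
          add_mem (P.mul_mem_left _ hzmod) (P.mul_mem_right _ hi)
        rw [hform] at hzero
        rw [show X - C (-(v * z₀)) = C v * (C z₁ * X + C z₀) + C i * X by
          have := congrArg C hv
          rw [map_add, map_mul, map_one] at this
          rw [map_neg, map_mul]; linear_combination (-X) * this]
        exact hzero
      have h0 : p ∣ z₀ := (hIp _).1 (by
        have := sub_mem hzmod (P.mul_mem_right X ((hIp _).2 h1))
        rwa [hform, add_sub_cancel_left] at this)
      obtain ⟨e₁, he₁⟩ := h1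
      obtain ⟨e₀, he₀⟩ := h0
      refine Ideal.mem_span_pair.2 ⟨C e₁ * X + C e₀, z /ₘ q, ?_⟩
      conv_rhs => rw [← modByMonic_add_div z q, hform, he₁, he₀]
      rw [map_mul, map_mul]; ring
    have h2 := Ideal.pow_right_mono hPle 2 h
    rw [pow_two (Ideal.span ({C p, q} : Set k[X][X])), Ideal.span_pair_mul_span_pair, Submodule.mem_span_insert] at h2
    obtain ⟨a, y, hy, ha⟩ := h2
    rw [Submodule.mem_span_insert] at hy
    obtain ⟨b₁, y₂, hy₂, rfl⟩ := hy
    rw [Submodule.mem_span_insert] at hy₂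
    obtain ⟨b₂, y₃, hy₃, rfl⟩ := hy₂
    rw [Submodule.mem_span_singleton] at hy₃
    obtain ⟨b₃, rfl⟩ := hy₃
    simp only [smul_eq_mul] at ha
    have hmul : q * (1 - b₁ * C p - b₂ * C p - b₃ * q) = a * C (p ^ 2) := by
      rw [map_pow]; linear_combination ha
    have hz : (a * C (p ^ 2)) %ₘ q = 0 := (modByMonic_eq_zero_iff_dvd hqm).2 ⟨_, hmul.symm⟩
    rw [mul_comm a, ← smul_eq_C_mul, smul_modByMonic, smul_eq_zero] at hz
    obtain ⟨d, rfl⟩ := (modByMonic_eq_zero_iff_dvd hqm).1 (hz.resolve_left (pow_ne_zero 2 hp0))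
    have h1 : 1 - b₁ * C p - b₂ * C p - b₃ * q = d * C (p ^ 2) :=
      mul_left_cancel₀ hqm.ne_zero (hmul.trans (by ring))
    refine hP.ne_top ((Ideal.eq_top_iff_one _).2 ?_)
    have hpP : C p ∈ P := (hIp p).2 dvd_rfl
    rw [show (1 : k[X][X]) = d * C (p ^ 2) + b₁ * C p + b₂ * C p + b₃ * q by linear_combination h1]
    refine add_mem (add_mem (add_mem ?_ (P.mul_mem_left _ hpP)) (P.mul_mem_left _ hpP)) (P.mul_mem_left _ hqP)
    rw [map_pow]
    exact P.mul_mem_left _ (Ideal.pow_mem_of_mem P hpP 2 two_pos)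

end Tower

section Plane

open scoped Polynomial

local notation "XX" => (MvPolynomial.X 0 : MvPolynomial (Fin 2) k)
local notation "YY" => (MvPolynomial.X 1 : MvPolynomial (Fin 2) k)

open MvPolynomial (C)

theorem pderiv_mem {σ : Type*} {P : Ideal (MvPolynomial σ k)} {g : MvPolynomial σ k} (hg : g ∈ P ^ 2) (i : σ) :
    MvPolynomial.pderiv i g ∈ P := by
  rw [sq] at hg
  induction hg using Submodule.mul_induction_on' with
  | mem_mul_mem a ha b hb =>
    rw [MvPolynomial.pderiv_mul]
    exact add_mem (P.mul_mem_left _ hb) (P.mul_mem_right _ ha)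
  | add a _ b _ ha hb => rw [map_add]; exact add_mem ha hb

/-- The swap of the two variables. -/
noncomputable def toTower : MvPolynomial (Fin 2) k →+* k[X][X] :=
  MvPolynomial.eval₂Hom (Polynomial.C.comp Polynomial.C) ![Polynomial.X, Polynomial.C Polynomial.X]

noncomputable def ofTower : k[X][X] →+* MvPolynomial (Fin 2) k :=
  Polynomial.eval₂RingHom (Polynomial.eval₂RingHom MvPolynomial.C YY) XX

noncomputable def towerEquiv : MvPolynomial (Fin 2) k ≃+* k[X][X] :=
  RingEquiv.ofRingHom toTower ofTower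
    (by
      refine Polynomial.ringHom_ext' (Polynomial.ringHom_ext' (RingHom.ext fun r => ?_) ?_) ?_ <;>
        simp [toTower, ofTower])
    (by
      refine MvPolynomial.ringHom_ext (fun r => ?_) (fun i => ?_)
      · simp [toTower, ofTower]
      · fin_cases i <;> simp [toTower, ofTower])

theorem quad_aux_char_two [CharP k 2] {α γ η : k} (hα : α ≠ 0) (P : Ideal (MvPolynomial (Fin 2) k)) [P.IsMaximal]
    (h : C α * XX ^ 2 + C γ * YY ^ 2 + C η ∈ P ^ 2) :
    (∃ a b : k, XX - C a ∈ P ∧ YY - C b ∈ P) ∨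
      ∃ (w p q r : k), C α * XX ^ 2 + C γ * YY ^ 2 + C η = C w * (C p * XX + C q * YY + C r) ^ 2 := by
  by_cases hs : (∃ a, a ^ 2 = α⁻¹ * γ) ∧ ∃ a, a ^ 2 = α⁻¹ * η
  · obtain ⟨⟨a, ha⟩, b, hb⟩ := hs
    refine Or.inr ⟨α, 1, a, b, ?_⟩
    have hγ : γ = α * a ^ 2 := by rw [ha, mul_inv_cancel_left₀ hα]
    have hη : η = α * b ^ 2 := by rw [hb, mul_inv_cancel_left₀ hα]
    rw [hγ, hη]
    simp only [map_one, one_mul, map_mul, map_pow, CharTwo.add_sq]
    ring
  · left
    set P' := P.map (towerEquiv (k := k)) with hP'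
    haveI : P'.IsMaximal := Ideal.map_isMaximal_of_equiv towerEquiv
    have h' : towerEquiv (C α⁻¹ * (C α * XX ^ 2 + C γ * YY ^ 2 + C η)) ∈ P' ^ 2 := by
      rw [hP', ← Ideal.map_pow]
      exact Ideal.mem_map_of_mem _ (Ideal.mul_mem_left _ _ h)
    rw [show C α⁻¹ * (C α * XX ^ 2 + C γ * YY ^ 2 + C η) = XX ^ 2 + (C (α⁻¹ * γ) * YY ^ 2 + C (α⁻¹ * η)) by
      rw [mul_add, mul_add, ← mul_assoc, ← map_mul, inv_mul_cancel₀ hα, map_one, one_mul, ← mul_assoc, ← map_mul,
        ← map_mul, add_assoc]] at h'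
    have hX : towerEquiv XX = (Polynomial.X : k[X][X]) := by simp [towerEquiv, toTower]
    have hY : towerEquiv YY = Polynomial.C (Polynomial.X : k[X]) := by simp [towerEquiv, toTower]
    have hC : ∀ a, towerEquiv (C a : MvPolynomial (Fin 2) k) = Polynomial.C (Polynomial.C a) := fun a => by
      simp [towerEquiv, toTower]
    simp only [map_add, map_mul, map_pow, hX, hY, hC] at h'
    obtain ⟨a, b, ha, hb⟩ := conic_char_two (α⁻¹ * γ) (α⁻¹ * η) hs P' (by
      simpa only [map_add, map_mul, map_pow] using h')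
    refine ⟨a, b, ?_, ?_⟩
    · rw [← Ideal.apply_mem_of_equiv_iff (f := towerEquiv (k := k))]
      rw [map_sub, hX, hC]
      exact ha
    · rw [← Ideal.apply_mem_of_equiv_iff (f := towerEquiv (k := k))]
      rw [map_sub, hY, hC, ← map_sub]
      exact hb

/-- A singular point of a conic is rational, or the conic is a double line. -/
theorem quad (α β γ δ ε η : k) (P : Ideal (MvPolynomial (Fin 2) k)) [hP : P.IsMaximal]
    (hne : C α * XX ^ 2 + C β * (XX * YY) + C γ * YY ^ 2 + C δ * XX + C ε * YY + C η ≠ 0)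
    (h : C α * XX ^ 2 + C β * (XX * YY) + C γ * YY ^ 2 + C δ * XX + C ε * YY + C η ∈ P ^ 2) :
    (∃ a b : k, XX - C a ∈ P ∧ YY - C b ∈ P) ∨
      ∃ (w p q r : k), C α * XX ^ 2 + C β * (XX * YY) + C γ * YY ^ 2 + C δ * XX + C ε * YY + C η =
        C w * (C p * XX + C q * YY + C r) ^ 2 := by
  set g : MvPolynomial (Fin 2) k :=
    C α * XX ^ 2 + C β * (XX * YY) + C γ * YY ^ 2 + C δ * XX + C ε * YY + C η with hg
  have hconst : ∀ {a : k}, (C a : MvPolynomial (Fin 2) k) ∈ P → a = 0 := fun {a} ha => by
    by_contra h0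
    exact hP.ne_top (P.eq_top_of_isUnit_mem ha ((isUnit_iff_ne_zero.2 h0).map C))
  have hgP : g ∈ P := Ideal.pow_le_self two_ne_zero h
  have hgX : C (2 * α) * XX + C β * YY + C δ ∈ P := by
    have := pderiv_mem h 0
    simp [hg, MvPolynomial.pderiv_pow, MvPolynomial.pderiv_mul, Pi.single] at this
    convert this using 1
    simp [map_mul, map_ofNat]; ring
  have hgY : C β * XX + C (2 * γ) * YY + C ε ∈ P := by
    have := pderiv_mem h 1
    simp [hg, MvPolynomial.pderiv_pow, MvPolynomial.pderiv_mul, Pi.single] at this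
    convert this using 1
    simp [map_mul, map_ofNat]; ring
  by_cases hD : 4 * α * γ - β ^ 2 = 0
  swap
  · left
    refine ⟨-(2 * γ * δ - β * ε) / (4 * α * γ - β ^ 2), -(2 * α * ε - β * δ) / (4 * α * γ - β ^ 2), ?_, ?_⟩
    · have h1 := sub_mem (P.mul_mem_left (C (2 * γ)) hgX) (P.mul_mem_left (C β) hgY)
      rw [show C (2 * γ) * (C (2 * α) * XX + C β * YY + C δ) - C β * (C β * XX + C (2 * γ) * YY + C ε) =
        C (4 * α * γ - β ^ 2) * (XX - C (-(2 * γ * δ - β * ε) / (4 * α * γ - β ^ 2))) by
          rw [mul_sub, ← map_mul C (4 * α * γ - β ^ 2), mul_div_cancel₀ _ hD]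
          simp only [map_mul, map_neg, map_sub, map_pow, map_ofNat]; ring] at h1
      exact (Ideal.unit_mul_mem_iff_mem P ((isUnit_iff_ne_zero.2 hD).map C)).1 h1
    · have h1 := sub_mem (P.mul_mem_left (C (2 * α)) hgY) (P.mul_mem_left (C β) hgX)
      rw [show C (2 * α) * (C β * XX + C (2 * γ) * YY + C ε) - C β * (C (2 * α) * XX + C β * YY + C δ) =
        C (4 * α * γ - β ^ 2) * (YY - C (-(2 * α * ε - β * δ) / (4 * α * γ - β ^ 2))) by
          rw [mul_sub, ← map_mul C (4 * α * γ - β ^ 2), mul_div_cancel₀ _ hD]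
          simp only [map_mul, map_neg, map_sub, map_pow, map_ofNat]; ring] at h1
      exact (Ideal.unit_mul_mem_iff_mem P ((isUnit_iff_ne_zero.2 hD).map C)).1 h1
  by_cases h2 : (2 : k) = 0
  · haveI : CharP k 2 := CharTwo.of_one_ne_zero_of_two_eq_zero one_ne_zero h2
    have h4 : (4 : k) = 0 := by linear_combination (2 : k) * h2
    have hβ : β = 0 := pow_eq_zero_iff two_ne_zero |>.1 (by linear_combination (-1) * hD + α * γ * h4)
    have hδ : δ = 0 := hconst (by simpa [h2, hβ] using hgX)
    have hε : ε = 0 := hconst (by simpa [h2, hβ] using hgY)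
    subst hβ hδ hε
    have hg' : g = C α * XX ^ 2 + C γ * YY ^ 2 + C η := by simp [hg]
    rw [hg'] at h hne hgP ⊢
    by_cases hα : α = 0
    · subst hα
      by_cases hγ : γ = 0
      · subst hγ
        simp at hgP hne
        exact absurd (hconst hgP) hne
      · let sw : MvPolynomial (Fin 2) k ≃+* MvPolynomial (Fin 2) k :=
          (MvPolynomial.renameEquiv k (Equiv.swap (0 : Fin 2) 1)).toRingEquiv
        haveI : (P.map sw).IsMaximal := Ideal.map_isMaximal_of_equiv sw
        have hswX : sw XX = YY := by simp [sw]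
        have hswY : sw YY = XX := by simp [sw]
        have hswC : ∀ a, sw (C a) = C a := fun a => by simp [sw]
        have h' : C γ * XX ^ 2 + C 0 * YY ^ 2 + C η ∈ (P.map sw) ^ 2 := by
          have := Ideal.mem_map_of_mem sw h
          rw [Ideal.map_pow] at this
          convert this using 1
          simp only [map_add, map_mul, map_pow, hswX, hswY, hswC, map_zero]
          ring
        rcases quad_aux_char_two hγ (P.map sw) h' with ⟨a, b, ha, hb⟩ | ⟨w, p, q, r, he⟩
        · refine Or.inl ⟨b, a, ?_, ?_⟩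
          · rw [← Ideal.apply_mem_of_equiv_iff (f := sw), map_sub, hswX, hswC]; exact hb
          · rw [← Ideal.apply_mem_of_equiv_iff (f := sw), map_sub, hswY, hswC]; exact ha
        · refine Or.inr ⟨w, q, p, r, sw.injective ?_⟩
          simp only [map_add, map_mul, map_pow, hswX, hswY, hswC]
          simp only [map_zero] at he ⊢
          linear_combination he
    · exact quad_aux_char_two hα P h
  · by_cases hα : α = 0
    · subst hα
      have hβ : β = 0 := pow_eq_zero_iff two_ne_zero |>.1 (by linear_combination (-1) * hD)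
      subst hβ
      have hδ : δ = 0 := hconst (by simpa using hgX)
      subst hδ
      by_cases hγ : γ = 0
      · subst hγ
        have hε : ε = 0 := hconst (by simpa using hgY)
        subst hε
        refine absurd ?_ hne
        have : η = 0 := hconst (by simpa [hg] using hgP)
        simp [hg, this]
      · right
        have h0 : 4 * γ * η - ε ^ 2 = 0 := hconst (by
          have := sub_mem (P.mul_mem_left (C (4 * γ)) hgP) (P.mul_mem_left (C (2 * γ) * YY + C ε) hgY)
          convert this using 1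
          simp [hg, map_mul, map_sub, map_pow, map_ofNat]; ring)
        have h4 : (4 : k) * γ ≠ 0 := mul_ne_zero (by
          rw [show (4 : k) = 2 * 2 by norm_num]; exact mul_ne_zero h2 h2) hγ
        refine ⟨(4 * γ)⁻¹, 0, 2 * γ, ε, ?_⟩
        apply mul_left_cancel₀ (show (C (4 * γ) : MvPolynomial (Fin 2) k) ≠ 0 by simpa using h4)
        rw [← mul_assoc, ← map_mul C (4 * γ), mul_inv_cancel₀ h4]
        have h0' := congrArg (C : k → MvPolynomial (Fin 2) k) h0
        simp only [hg, map_mul, map_sub, map_pow, map_zero, map_ofNat, map_one] at h0' ⊢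
        linear_combination h0'
    · right
      have hc : 2 * α * ε - β * δ = 0 := hconst (by
        have := sub_mem (P.mul_mem_left (C (2 * α)) hgY) (P.mul_mem_left (C β) hgX)
        have hD' := congrArg (C : k → MvPolynomial (Fin 2) k) hD
        convert this using 1
        simp only [map_mul, map_sub, map_pow, map_zero, map_ofNat] at hD' ⊢
        linear_combination (-YY) * hD')
      have h0 : 4 * α * η - δ ^ 2 = 0 := hconst (by
        have := sub_mem (P.mul_mem_left (C (4 * α)) hgP)
          (P.mul_mem_left (C (2 * α) * XX + C β * YY + C δ) hgX)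
        have hD' := congrArg (C : k → MvPolynomial (Fin 2) k) hD
        have hc' := congrArg (C : k → MvPolynomial (Fin 2) k) hc
        convert this using 1
        simp only [hg, map_mul, map_sub, map_pow, map_zero, map_ofNat] at hD' hc' ⊢
        linear_combination (-YY ^ 2) * hD' - 2 * YY * hc')
      have h4 : (4 : k) * α ≠ 0 := mul_ne_zero (by
        rw [show (4 : k) = 2 * 2 by norm_num]; exact mul_ne_zero h2 h2) hα
      refine ⟨(4 * α)⁻¹, 2 * α, β, δ, ?_⟩
      apply mul_left_cancel₀ (show (C (4 * α) : MvPolynomial (Fin 2) k) ≠ 0 by simpa using h4)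
      rw [← mul_assoc, ← map_mul C (4 * α), mul_inv_cancel₀ h4]
      have h0' := congrArg (C : k → MvPolynomial (Fin 2) k) h0
      have hD' := congrArg (C : k → MvPolynomial (Fin 2) k) hD
      have hc' := congrArg (C : k → MvPolynomial (Fin 2) k) hc
      simp only [hg, map_mul, map_sub, map_pow, map_zero, map_ofNat, map_one] at h0' hD' hc' ⊢
      linear_combination h0' + YY ^ 2 * hD' + 2 * YY * hc'

end Plane

end Groth.L05.RDP
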