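import Groth.Agent.L05.RDP.Params
import Groth.Agent.L05.RDP.Quad
import Mathlib.RingTheory.IntegralClosure.IsIntegralClosure.Basic
import Mathlib.RingTheory.Ideal.GoingUp

/-! Point blow-ups of three dimensional regular local rings, intrinsically. -/

set_option autoImplicit false
set_option linter.style.haveILetI false
set_option backward.isDefEq.respectTransparency false
set_option backward.isDefEq.respectTransparency.types false

universe u

noncomputable section

namespace Groth.L05.RDP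

open IsLocalRing MvPolynomial

variable {R R' : Type u} [CommRing R] [IsRegularLocalRing R] [CommRing R'] [IsRegularLocalRing R']

/-- `R'` is the local ring at a closed point of the exceptional plane of the blow-up of the closed point. -/
structure Blow (φ : R →+* R') : Prop where
  dim₀ : ringKrullDim R = 3
  dim : ringKrullDim R' = 3
  inj : Function.Injective φ
  exists_param : ∃ x ∈ maximalIdeal R, (maximalIdeal R).map φ = Ideal.span {φ x} ∧
    φ x ∈ maximalIdeal R' ∧ φ x ∉ maximalIdeal R' ^ 2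
  frac : ∀ r : R', ∃ (n : ℕ) (c d : R), c ∈ maximalIdeal R ^ n ∧ d ∈ maximalIdeal R ^ n ∧
    Ideal.span {φ d} = (maximalIdeal R).map φ ^ n ∧ r * φ d = φ c
  ord : ∀ (j : ℕ) (g : R), g ∈ maximalIdeal R ^ j → φ g ∈ (maximalIdeal R).map φ ^ (j + 1) →
    g ∈ maximalIdeal R ^ (j + 1)
  integral : ((residue R').comp φ).IsIntegral

namespace Blow

variable {φ : R →+* R'} (B : Blow φ)
include B

theorem map_le : (maximalIdeal R).map φ ≤ maximalIdeal R' := by
  obtain ⟨x, -, hx, hx', -⟩ := B.exists_param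
  rw [hx]; exact (Ideal.span_singleton_le_iff_mem _).2 hx'

theorem map_mem {g : R} (hg : g ∈ maximalIdeal R) : φ g ∈ maximalIdeal R' :=
  B.map_le (Ideal.mem_map_of_mem φ hg)

theorem map_pow_mem {g : R} {n : ℕ} (hg : g ∈ maximalIdeal R ^ n) : φ g ∈ maximalIdeal R' ^ n :=
  Ideal.pow_right_mono B.map_le n ((Ideal.map_pow φ _ n).le (Ideal.mem_map_of_mem φ hg))

variable {a : R} (ha : (maximalIdeal R).map φ = Ideal.span {φ a})
include ha

theorem param_mem' : φ a ∈ maximalIdeal R' :=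
  B.map_le (ha ▸ Ideal.mem_span_singleton_self _)

theorem param_notMem_sq : φ a ∉ maximalIdeal R' ^ 2 := fun h => by
  obtain ⟨x, -, hx, -, hx2⟩ := B.exists_param
  obtain ⟨v, hv⟩ := Ideal.mem_span_singleton'.1 ((hx.symm.trans ha).le (Ideal.mem_span_singleton_self (φ x)))
  exact hx2 (hv ▸ Ideal.mul_mem_left _ _ h)

theorem param_ne_zero : φ a ≠ 0 := fun h => B.param_notMem_sq ha (h ▸ zero_mem _)

theorem param_mem : a ∈ maximalIdeal R := by
  by_contra h
  have hu : IsUnit a := by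
    rw [IsLocalRing.mem_maximalIdeal, mem_nonunits_iff, not_not] at h; exact h
  exact (IsLocalRing.mem_maximalIdeal _).1 (B.param_mem' ha) (hu.map φ)

theorem param_notMem_sq₀ : a ∉ maximalIdeal R ^ 2 := fun h => B.param_notMem_sq ha (B.map_pow_mem h)

omit [IsRegularLocalRing R'] B in
theorem mapPow_eq (n : ℕ) : (maximalIdeal R).map φ ^ n = Ideal.span {φ a ^ n} := by
  rw [ha, Ideal.span_singleton_pow]

omit [IsRegularLocalRing R'] B in
theorem exists_div {n : ℕ} {g : R} (hg : g ∈ maximalIdeal R ^ n) : ∃ g', φ g = φ a ^ n * g' := by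
  obtain ⟨g', hg'⟩ := Ideal.mem_span_singleton'.1 ((mapPow_eq ha n).le
    ((Ideal.map_pow φ _ n).le (Ideal.mem_map_of_mem φ hg)))
  exact ⟨g', by rw [← hg', mul_comm]⟩

theorem cancel {n : ℕ} {p q : R'} (h : φ a ^ n * p = φ a ^ n * q) : p = q := by
  haveI := Groth.L01.isDomain_of_regular R'
  exact mul_left_cancel₀ (pow_ne_zero n (B.param_ne_zero ha)) h

theorem mem_of_div_mem {n : ℕ} {g : R} {g' : R'} (hg : g ∈ maximalIdeal R ^ n) (he : φ g = φ a ^ n * g')
    (h : g' ∈ Ideal.span {φ a}) : g ∈ maximalIdeal R ^ (n + 1) := by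
  refine B.ord n g hg ?_
  obtain ⟨v, hv⟩ := Ideal.mem_span_singleton'.1 h
  rw [mapPow_eq ha, he, ← hv]
  exact Ideal.mem_span_singleton'.2 ⟨v, by ring⟩

end Blow

/-- The data of coordinates on the chart of `φ` belonging to the parameter `a`. -/
structure Coord (φ : R →+* R') (a b c : R) (Y Z : R') : Prop where
  blow : Blow φ
  params : Params a b c
  param : (maximalIdeal R).map φ = Ideal.span {φ a}
  eq₂ : φ b = φ a * Y
  eq₃ : φ c = φ a * Z

theorem Blow.exists_coord {φ : R →+* R'} (B : Blow φ) {a b c : R} (hP : Params a b c)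
    (ha : (maximalIdeal R).map φ = Ideal.span {φ a}) : ∃ Y Z, Coord φ a b c Y Z := by
  obtain ⟨Y, hY⟩ := Blow.exists_div ha (n := 1) (by rw [pow_one]; exact hP.mem₂)
  obtain ⟨Z, hZ⟩ := Blow.exists_div ha (n := 1) (by rw [pow_one]; exact hP.mem₃)
  rw [pow_one] at hY hZ
  exact ⟨Y, Z, B, hP, ha, hY, hZ⟩

namespace Coord

variable {φ : R →+* R'} {a b c : R} {Y Z : R'}

/-- Evaluation at the coordinates. -/
abbrev ev (φ : R →+* R') (Y Z : R') : MvPolynomial (Fin 2) R →+* R' := eval₂Hom φ ![Y, Z]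

variable (C₀ : Coord φ a b c Y Z)
include C₀

theorem eval_hom {n : ℕ} {F : MvPolynomial (Fin 3) R} (hF : F.IsHomogeneous n) :
    φ (eval ![a, b, c] F) = φ a ^ n * ev φ Y Z (aeval ![1, X 0, X 1] F) := by
  have h0 : (ev φ Y Z).comp (aeval ![(1 : MvPolynomial (Fin 2) R), X 0, X 1]).toRingHom = eval₂Hom φ ![1, Y, Z] := by
    refine MvPolynomial.ringHom_ext (fun r => by simp) fun i => ?_
    fin_cases i <;> simp
  have h1 : ev φ Y Z (aeval ![1, X 0, X 1] F) = eval₂Hom φ ![1, Y, Z] F := congrArg (fun g : _ →+* _ => g F) h0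
  rw [h1, coe_eval₂Hom, eval₂_eq' φ, eval_eq', map_sum, Finset.mul_sum]
  refine Finset.sum_congr rfl fun d hd => ?_
  have hdeg : d 0 + d 1 + d 2 = n := by
    simpa [Finsupp.weight_apply, Finsupp.sum_fintype, Fin.sum_univ_three] using hF (mem_support_iff.1 hd)
  simp only [map_mul, map_prod, map_pow, Fin.prod_univ_three, Matrix.cons_val_zero, Matrix.cons_val_one,
    Matrix.cons_val_two, Matrix.head_cons, Matrix.tail_cons, one_pow, C₀.eq₂, C₀.eq₃, mul_pow, ← hdeg, pow_add]
  ring

omit C₀ in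
theorem exists_homogenise (p : MvPolynomial (Fin 2) R) : ∃ F : MvPolynomial (Fin 3) R,
    F.IsHomogeneous p.totalDegree ∧ aeval ![(1 : MvPolynomial (Fin 2) R), X 0, X 1] F = p := by
  refine ⟨∑ d ∈ p.support, C (p.coeff d) * (X 0 ^ (p.totalDegree - (d 0 + d 1)) * (X 1 ^ d 0 * X 2 ^ d 1)),
    IsHomogeneous.sum _ _ _ fun d hd => IsHomogeneous.C_mul ?_ _, ?_⟩
  · have hle : d 0 + d 1 ≤ p.totalDegree := by
      refine le_trans (le_of_eq ?_) (Finset.le_sup (f := fun d : Fin 2 →₀ ℕ => d.sum fun _ e => e) hd)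
      simp [Finsupp.sum_fintype, Fin.sum_univ_two]
    have := ((isHomogeneous_X R (0 : Fin 3)).pow (p.totalDegree - (d 0 + d 1))).mul
      (((isHomogeneous_X R (1 : Fin 3)).pow (d 0)).mul ((isHomogeneous_X R (2 : Fin 3)).pow (d 1)))
    simpa [one_mul, Nat.sub_add_cancel hle] using this
  · conv_rhs => rw [p.as_sum]
    rw [map_sum]
    refine Finset.sum_congr rfl fun d _ => ?_
    rw [monomial_eq, Finsupp.prod_fintype _ _ (fun i => pow_zero _), Fin.prod_univ_two]
    simp

/-- The coordinates are independent modulo the parameter. -/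
theorem ev_eq_zero {p : MvPolynomial (Fin 2) R} (hp : ev φ Y Z p ∈ Ideal.span {φ a}) :
    MvPolynomial.map (residue R) p = 0 := by
  obtain ⟨F, hF, hFp⟩ := exists_homogenise p
  have he : eval ![a, b, c] F ∈ maximalIdeal R ^ p.totalDegree := by
    rw [← C₀.params.span_range]; exact Groth.L07.QReg.eval_mem_span_pow _ hF
  have h1 := C₀.blow.mem_of_div_mem C₀.param he (C₀.eval_hom hF) (hFp.symm ▸ hp)
  have h2 := C₀.params.forms hF h1
  rw [← hFp]
  have : ∀ G : MvPolynomial (Fin 3) R, MvPolynomial.map (residue R) (aeval ![(1 : MvPolynomial (Fin 2) R), X 0, X 1] G) =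
      aeval ![(1 : MvPolynomial (Fin 2) (ResidueField R)), X 0, X 1] (MvPolynomial.map (residue R) G) := by
    intro G
    induction G using MvPolynomial.induction_on with
    | C r => simp [MvPolynomial.algebraMap_eq]
    | add p q hp hq => simp only [map_add, hp, hq]
    | mul_X p i hp =>
      simp only [map_mul, hp, map_X, aeval_X]
      congr 1
      fin_cases i <;> simp
  rw [this, h2, map_zero]

/-- Every element is a quotient of polynomials in the coordinates. -/
theorem exists_frac (r : R') : ∃ p s : MvPolynomial (Fin 2) R,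
    IsUnit (ev φ Y Z s) ∧ r * ev φ Y Z s = ev φ Y Z p := by
  obtain ⟨n, e, d, he, hd, hspan, hrd⟩ := C₀.blow.frac r
  rw [← C₀.params.span_range] at he hd
  obtain ⟨F, hF, rfl⟩ := Groth.L07.QReg.exists_homogeneous_of_mem_span_pow _ n he
  obtain ⟨G, hG, rfl⟩ := Groth.L07.QReg.exists_homogeneous_of_mem_span_pow _ n hd
  rw [Blow.mapPow_eq C₀.param, C₀.eval_hom hG] at hspan
  rw [C₀.eval_hom hF, C₀.eval_hom hG, mul_left_comm] at hrd
  refine ⟨_, _, ?_, C₀.blow.cancel C₀.param hrd⟩
  haveI := Groth.L01.isDomain_of_regular R'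
  obtain ⟨v, hv⟩ := Ideal.mem_span_singleton'.1 (hspan.symm.le (Ideal.mem_span_singleton_self (φ a ^ n)))
  refine IsUnit.of_mul_eq_one_right v (C₀.blow.cancel C₀.param (n := n) ?_)
  linear_combination hv

omit C₀ in
/-- The coordinates in the residue field. -/
abbrev chi (φ : R →+* R') (hφ : (maximalIdeal R).map φ ≤ maximalIdeal R') (Y Z : R') :
    MvPolynomial (Fin 2) (ResidueField R) →+* ResidueField R' :=
  eval₂Hom (Ideal.Quotient.lift (maximalIdeal R) ((residue R').comp φ)
    fun _ hx => (residue_eq_zero_iff _).2 (hφ (Ideal.mem_map_of_mem φ hx))) ![residue R' Y, residue R' Z]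

/-- The point of the exceptional plane. -/
abbrev point : Ideal (MvPolynomial (Fin 2) (ResidueField R)) :=
  RingHom.ker (chi φ C₀.blow.map_le Y Z)

theorem chi_map (p : MvPolynomial (Fin 2) R) :
    chi φ C₀.blow.map_le Y Z (MvPolynomial.map (residue R) p) = residue R' (ev φ Y Z p) := by
  have : (chi φ C₀.blow.map_le Y Z).comp (MvPolynomial.map (residue R)) = (residue R').comp (ev φ Y Z) := by
    refine MvPolynomial.ringHom_ext (fun r => ?_) fun i => ?_
    · simp [chi]; rfl
    · fin_cases i <;> simp [chi]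
  exact congrArg (fun g : _ →+* _ => g p) this

theorem map_mem_point {p : MvPolynomial (Fin 2) R} :
    MvPolynomial.map (residue R) p ∈ C₀.point ↔ ev φ Y Z p ∈ maximalIdeal R' := by
  rw [RingHom.mem_ker, C₀.chi_map, residue_eq_zero_iff]

theorem point_isMaximal : C₀.point.IsMaximal := by
  rw [point, RingHom.ker_eq_comap_bot]
  haveI : (⊥ : Ideal (ResidueField R')).IsMaximal := Ideal.bot_isMaximal
  refine Ideal.isMaximal_comap_of_isIntegral_of_isMaximal' _ ?_ ⊥
  let L := Ideal.Quotient.lift (maximalIdeal R) ((residue R').comp φ)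
    fun _ hx => (residue_eq_zero_iff _).2 (C₀.blow.map_le (Ideal.mem_map_of_mem φ hx))
  have hL : L.IsIntegral := RingHom.IsIntegral.tower_top (Ideal.Quotient.mk (maximalIdeal R)) L C₀.blow.integral
  intro z
  obtain ⟨q, hq, hq0⟩ := hL z
  refine ⟨q.map C, hq.map C, ?_⟩
  rw [Polynomial.eval₂_map, eval₂Hom_comp_C]
  exact hq0

omit C₀ in
theorem mem_pow_of_mul_mem {B : Type*} [CommRing B] {P : Ideal B} [hP : P.IsMaximal] {s p : B} (hs : s ∉ P) :
    ∀ {n : ℕ}, s * p ∈ P ^ n → p ∈ P ^ n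
  | 0, _ => by simp
  | n + 1, h => by
    have hn := mem_pow_of_mul_mem hs (n := n) (Ideal.pow_le_pow_right (Nat.le_succ n) h)
    obtain ⟨v, i, hi, hv⟩ := hP.exists_inv hs
    rw [show p = v * (s * p) + i * p by rw [← mul_assoc, ← add_mul, hv, one_mul]]
    exact add_mem (Ideal.mul_mem_left _ _ h) (by rw [pow_succ']; exact Ideal.mul_mem_mul hi hn)

theorem exists_lift_of_mem_pow : ∀ (n : ℕ) {z : R'}, z ∈ maximalIdeal R' ^ n →
    ∃ p s : MvPolynomial (Fin 2) R, MvPolynomial.map (residue R) s ∉ C₀.point ∧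
      MvPolynomial.map (residue R) p ∈ C₀.point ^ n ∧ z * ev φ Y Z s - ev φ Y Z p ∈ Ideal.span {φ a}
  | 0, z, _ => by
    obtain ⟨p, s, hs, h⟩ := C₀.exists_frac z
    exact ⟨p, s, fun h' => (IsLocalRing.mem_maximalIdeal _).1 (C₀.map_mem_point.1 h') hs, by simp, by rw [h, sub_self]; exact zero_mem _⟩
  | n + 1, z, hz => by
    haveI := C₀.point_isMaximal
    rw [pow_succ] at hz
    induction hz using Submodule.mul_induction_on' with
    | mem_mul_mem u hu w hw =>
      obtain ⟨p₁, s₁, hs₁, hp₁, h₁⟩ := exists_lift_of_mem_pow n hu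
      obtain ⟨p₂, s₂, hs₂, h₂⟩ := C₀.exists_frac w
      refine ⟨p₁ * p₂, s₁ * s₂, ?_, ?_, ?_⟩
      · rw [map_mul]
        exact fun h => (Ideal.IsPrime.mem_or_mem inferInstance h).elim hs₁
          fun h' => (IsLocalRing.mem_maximalIdeal _).1 (C₀.map_mem_point.1 h') hs₂
      · rw [map_mul, pow_succ]
        exact Ideal.mul_mem_mul hp₁ (C₀.map_mem_point.2 (h₂ ▸ Ideal.mul_mem_right _ _ hw))
      · rw [map_mul, map_mul, show u * w * (ev φ Y Z s₁ * ev φ Y Z s₂) - ev φ Y Z p₁ * ev φ Y Z p₂ =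
          (u * ev φ Y Z s₁ - ev φ Y Z p₁) * ev φ Y Z p₂ by rw [← h₂]; ring]
        exact Ideal.mul_mem_right _ _ h₁
    | add u _ w _ hu hw =>
      obtain ⟨p₁, s₁, hs₁, hp₁, h₁⟩ := hu
      obtain ⟨p₂, s₂, hs₂, hp₂, h₂⟩ := hw
      refine ⟨p₁ * s₂ + p₂ * s₁, s₁ * s₂, ?_, ?_, ?_⟩
      · rw [map_mul]
        exact fun h => (Ideal.IsPrime.mem_or_mem inferInstance h).elim hs₁ hs₂
      · rw [map_add, map_mul, map_mul]
        exact add_mem (Ideal.mul_mem_right _ _ hp₁) (Ideal.mul_mem_right _ _ hp₂)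
      · simp only [map_add, map_mul]
        rw [show (u + w) * (ev φ Y Z s₁ * ev φ Y Z s₂) - (ev φ Y Z p₁ * ev φ Y Z s₂ + ev φ Y Z p₂ * ev φ Y Z s₁) =
          (u * ev φ Y Z s₁ - ev φ Y Z p₁) * ev φ Y Z s₂ + (w * ev φ Y Z s₂ - ev φ Y Z p₂) * ev φ Y Z s₁ by ring]
        exact add_mem (Ideal.mul_mem_right _ _ h₁) (Ideal.mul_mem_right _ _ h₂)

/-- Orders on the exceptional plane. -/
theorem mem_point_pow {p : MvPolynomial (Fin 2) R} {n : ℕ}
    (h : ev φ Y Z p ∈ Ideal.span {φ a} ⊔ maximalIdeal R' ^ n) :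
    MvPolynomial.map (residue R) p ∈ C₀.point ^ n := by
  haveI := C₀.point_isMaximal
  obtain ⟨u, hu, z, hz, huz⟩ := Submodule.mem_sup.1 h
  obtain ⟨q, s, hs, hq, hqs⟩ := C₀.exists_lift_of_mem_pow n hz
  have h1 : ev φ Y Z (p * s - q) ∈ Ideal.span {φ a} := by
    rw [map_sub, map_mul, ← huz, show (u + z) * ev φ Y Z s - ev φ Y Z q = u * ev φ Y Z s + (z * ev φ Y Z s - ev φ Y Z q) by ring]
    exact add_mem (Ideal.mul_mem_right _ _ hu) hqs
  have h2 := C₀.ev_eq_zero h1
  rw [map_sub, map_mul, sub_eq_zero, mul_comm] at h2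
  exact mem_pow_of_mul_mem hs (h2 ▸ hq)

theorem params_of_point {π₁ π₂ : MvPolynomial (Fin 2) R}
    (h : C₀.point = Ideal.span {MvPolynomial.map (residue R) π₁, MvPolynomial.map (residue R) π₂}) :
    Params (φ a) (ev φ Y Z π₁) (ev φ Y Z π₂) := by
  refine ⟨le_antisymm (Ideal.span_le.2 ?_) ?_, C₀.blow.dim⟩
  · rintro w (rfl | rfl | rfl)
    · exact C₀.blow.param_mem' C₀.param
    · exact C₀.map_mem_point.1 (h ▸ Ideal.subset_span (by simp))
    · exact C₀.map_mem_point.1 (h ▸ Ideal.subset_span (by simp))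
  · intro z hz
    obtain ⟨p, s, hs, hp, hzs⟩ := C₀.exists_lift_of_mem_pow 1 (by rwa [pow_one])
    rw [pow_one, h, Ideal.mem_span_pair] at hp
    obtain ⟨u, w, huw⟩ := hp
    obtain ⟨u₀, rfl⟩ := map_surjective (σ := Fin 2) (residue R) Ideal.Quotient.mk_surjective u
    obtain ⟨w₀, rfl⟩ := map_surjective (σ := Fin 2) (residue R) Ideal.Quotient.mk_surjective w
    set J := Ideal.span ({φ a, ev φ Y Z π₁, ev φ Y Z π₂} : Set R')
    have hker : ∀ e : MvPolynomial (Fin 2) R, MvPolynomial.map (residue R) e = 0 → ev φ Y Z e ∈ Ideal.span {φ a} :=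
      fun e he => by
        rw [e.as_sum, map_sum]
        refine Ideal.sum_mem _ fun d _ => ?_
        rw [monomial_eq, map_mul]
        refine Ideal.mul_mem_right _ _ ?_
        rw [eval₂Hom_C, ← C₀.param]
        exact Ideal.mem_map_of_mem φ ((residue_eq_zero_iff _).1 (by rw [← coeff_map, he, coeff_zero]))
    have ha' : Ideal.span {φ a} ≤ J := Ideal.span_mono (by simp)
    have h3 : z * ev φ Y Z s ∈ J := by
      have h4 := hker (p - (u₀ * π₁ + w₀ * π₂)) (by rw [map_sub, map_add, map_mul, map_mul, huw, sub_self])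
      rw [show z * ev φ Y Z s = (z * ev φ Y Z s - ev φ Y Z p) + ev φ Y Z (p - (u₀ * π₁ + w₀ * π₂)) +
        (ev φ Y Z u₀ * ev φ Y Z π₁ + ev φ Y Z w₀ * ev φ Y Z π₂) by simp only [map_sub, map_add, map_mul]; ring]
      exact add_mem (add_mem (ha' hzs) (ha' h4))
        (add_mem (Ideal.mul_mem_left _ _ (Ideal.subset_span (by simp))) (Ideal.mul_mem_left _ _ (Ideal.subset_span (by simp))))
    have hu : IsUnit (ev φ Y Z s) := by
      by_contra hu
      exact hs (C₀.map_mem_point.2 ((IsLocalRing.mem_maximalIdeal _).2 hu))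
    exact (Ideal.mul_unit_mem_iff_mem J hu).1 h3

omit C₀ in
theorem span_of_rational {k : Type*} [Field k] {P : Ideal (MvPolynomial (Fin 2) k)} [hP : P.IsMaximal] {y z : k}
    (hy : X 0 - C y ∈ P) (hz : X 1 - C z ∈ P) : P = Ideal.span {X 0 - C y, X 1 - C z} := by
  refine le_antisymm (fun p hp => ?_) (Ideal.span_le.2 (by rintro w (rfl | rfl) <;> assumption))
  set I := Ideal.span ({X 0 - C y, X 1 - C z} : Set (MvPolynomial (Fin 2) k))
  have h1 : ∀ p : MvPolynomial (Fin 2) k, p - C (eval ![y, z] p) ∈ I := by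
    intro p
    induction p using MvPolynomial.induction_on with
    | C r => simp
    | add p q hp hq =>
      rw [map_add (eval _), map_add C, add_sub_add_comm]; exact add_mem hp hq
    | mul_X p i hp =>
      rw [map_mul (eval _), map_mul C, eval_X, show p * X i - C (eval ![y, z] p) * C (![y, z] i) =
        (p - C (eval ![y, z] p)) * X i + C (eval ![y, z] p) * (X i - C (![y, z] i)) by ring]
      refine add_mem (Ideal.mul_mem_right _ _ hp) (Ideal.mul_mem_left _ _ ?_)
      fin_cases i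
      · exact Ideal.subset_span (by simp)
      · exact Ideal.subset_span (by simp)
  have hIP : I ≤ P := Ideal.span_le.2 (by rintro w (rfl | rfl) <;> assumption)
  have h2 : C (eval ![y, z] p) ∈ P := by simpa using sub_mem hp (hIP (h1 p))
  have h3 : eval ![y, z] p = 0 := by
    by_contra h0
    exact hP.ne_top (P.eq_top_of_isUnit_mem h2 ((isUnit_iff_ne_zero.2 h0).map C))
  simpa [h3] using h1 p

theorem params_of_rational {y z : R} (hy : X 0 - C (residue R y) ∈ C₀.point) (hz : X 1 - C (residue R z) ∈ C₀.point) :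
    Params (φ a) (Y - φ y) (Z - φ z) := by
  haveI := C₀.point_isMaximal
  have := C₀.params_of_point (π₁ := X 0 - C y) (π₂ := X 1 - C z) (by
    simp only [map_sub, map_X, map_C]; exact span_of_rational hy hz)
  simpa using this

/-- At a rational point the residue field does not grow. -/
theorem exists_residue {y z : R} (hy : X 0 - C (residue R y) ∈ C₀.point) (hz : X 1 - C (residue R z) ∈ C₀.point)
    (r : R') : ∃ r₀, r - φ r₀ ∈ maximalIdeal R' := by
  have hP := C₀.params_of_rational hy hz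
  have hy' : Y - φ y ∈ maximalIdeal R' := hP.mem₂
  have hz' : Z - φ z ∈ maximalIdeal R' := hP.mem₃
  obtain ⟨p, s, hs, hps⟩ := C₀.exists_frac r
  have h1 : ∀ q : MvPolynomial (Fin 2) R, ev φ Y Z q - φ (eval ![y, z] q) ∈ maximalIdeal R' := by
    intro q
    induction q using MvPolynomial.induction_on with
    | C r => simp
    | add p q hp hq =>
      rw [map_add (ev φ Y Z), map_add (eval _), map_add φ, add_sub_add_comm]; exact add_mem hp hq
    | mul_X q i hq =>
      rw [map_mul (ev φ Y Z), map_mul (eval _), map_mul φ, eval₂Hom_X', eval_X,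
        show ev φ Y Z q * ![Y, Z] i - φ (eval ![y, z] q) * φ (![y, z] i) =
          (ev φ Y Z q - φ (eval ![y, z] q)) * ![Y, Z] i + φ (eval ![y, z] q) * (![Y, Z] i - φ (![y, z] i)) by ring]
      refine add_mem (Ideal.mul_mem_right _ _ hq) (Ideal.mul_mem_left _ _ ?_)
      fin_cases i
      · simpa using hy'
      · simpa using hz'
  have hu : IsUnit (eval ![y, z] s) := by
    by_contra hu
    refine (IsLocalRing.mem_maximalIdeal _).1 ?_ hs
    have h0 := add_mem (h1 s) (C₀.blow.map_mem ((IsLocalRing.mem_maximalIdeal _).2 hu))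
    simpa using h0
  obtain ⟨v, hv⟩ := hu.exists_left_inv
  refine ⟨v * eval ![y, z] p, ?_⟩
  have h2 : (r - φ (v * eval ![y, z] p)) * ev φ Y Z s ∈ maximalIdeal R' := by
    rw [sub_mul, hps, map_mul, show ev φ Y Z p - φ v * φ (eval ![y, z] p) * ev φ Y Z s =
      (ev φ Y Z p - φ (eval ![y, z] p)) - φ v * φ (eval ![y, z] p) * (ev φ Y Z s - φ (eval ![y, z] s)) by
        have hvs : φ v * φ (eval ![y, z] s) = 1 := by rw [← map_mul, hv, map_one]
        linear_combination (-(φ (eval ![y, z] p))) * hvs]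
    exact sub_mem (h1 p) (Ideal.mul_mem_left _ _ (h1 s))
  exact (Ideal.mul_unit_mem_iff_mem _ hs).1 h2

theorem ev_mem_of_map_eq_zero {e : MvPolynomial (Fin 2) R} (he : MvPolynomial.map (residue R) e = 0) :
    ev φ Y Z e ∈ Ideal.span {φ a} := by
  rw [e.as_sum, map_sum]
  refine Ideal.sum_mem _ fun d _ => ?_
  rw [monomial_eq, map_mul]
  refine Ideal.mul_mem_right _ _ ?_
  rw [eval₂Hom_C, ← C₀.param]
  exact Ideal.mem_map_of_mem φ ((residue_eq_zero_iff _).1 (by rw [← coeff_map, he, coeff_zero]))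

end Coord

end Groth.L05.RDP
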