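import Groth.Agent.L05.RDP.State

/-! Blowing up a double point whose tangent cone is not a double line. -/

set_option autoImplicit false
set_option linter.style.haveILetI false
set_option backward.isDefEq.respectTransparency false
set_option backward.isDefEq.respectTransparency.types false
set_option maxHeartbeats 800000

universe u

noncomputable section

namespace Groth.L05.RDP

open IsLocalRing MvPolynomial

variable {R R' : Type u} [CommRing R] [IsRegularLocalRing R] [CommRing R'] [IsRegularLocalRing R']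
variable {φ : R →+* R'} {f : R} {f' : R'}

theorem stepN_aux {a b c : R} {Y Z : R'} (C₀ : Coord φ a b c Y Z) (hf : f ∈ maximalIdeal R ^ 2) (hN : ¬ DW f)
    {g : R'} (hg : φ f = φ a ^ 2 * g) (hsing : g ∈ maximalIdeal R' ^ 2) :
    ∃ y z : R, Params (φ a) (Y - φ y) (Z - φ z) ∧ (∀ r : R', ∃ r₀, r - φ r₀ ∈ maximalIdeal R') ∧ NS g (φ a) := by
  obtain ⟨c₁, c₂, c₃, c₄, c₅, c₆, hq⟩ := C₀.params.exists_quad hf
  have hg' : g = φ c₁ + φ c₂ * Y + φ c₃ * Z + φ c₄ * Y ^ 2 + φ c₅ * (Y * Z) + φ c₆ * Z ^ 2 := by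
    refine C₀.blow.cancel C₀.param (n := 2) ?_
    rw [← hg, hq]
    simp only [map_add, map_mul, map_pow, C₀.eq₂, C₀.eq₃]
    ring
  -- pulling back congruences modulo the parameter
  have pull : ∀ (w p q s : R), g - φ w * (φ s + φ p * Y + φ q * Z) ^ 2 ∈ Ideal.span {φ a} → False := by
    intro w p q s hm
    refine hN ⟨w, s * a + p * b + q * c, ?_, C₀.blow.mem_cube C₀.param ?_
      (g' := g - φ w * (φ s + φ p * Y + φ q * Z) ^ 2) ?_ hm⟩
    · exact add_mem (add_mem (Ideal.mul_mem_left _ _ C₀.params.mem₁) (Ideal.mul_mem_left _ _ C₀.params.mem₂))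
        (Ideal.mul_mem_left _ _ C₀.params.mem₃)
    · refine sub_mem hf (Ideal.mul_mem_left _ _ (Ideal.pow_mem_pow ?_ 2))
      exact add_mem (add_mem (Ideal.mul_mem_left _ _ C₀.params.mem₁) (Ideal.mul_mem_left _ _ C₀.params.mem₂))
        (Ideal.mul_mem_left _ _ C₀.params.mem₃)
    · rw [map_sub, hg]
      simp only [map_add, map_mul, map_pow, C₀.eq₂, C₀.eq₃]
      ring
  let p : MvPolynomial (Fin 2) R :=
    C c₄ * X 0 ^ 2 + C c₅ * (X 0 * X 1) + C c₆ * X 1 ^ 2 + C c₂ * X 0 + C c₃ * X 1 + C c₁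
  have hp : Coord.ev φ Y Z p = g := by
    rw [hg']; simp [p]; ring
  have hmem : MvPolynomial.map (residue R) p ∈ C₀.point ^ 2 :=
    C₀.mem_point_pow (Submodule.mem_sup_right (hp ▸ hsing))
  haveI := C₀.point_isMaximal
  simp only [p, map_add, map_mul, map_pow, map_C, map_X] at hmem
  have hne : C (residue R c₄) * X 0 ^ 2 + C (residue R c₅) * (X 0 * X 1) + C (residue R c₆) * X 1 ^ 2 +
      C (residue R c₂) * X 0 + C (residue R c₃) * X 1 + C (residue R c₁) ≠ (0 : MvPolynomial (Fin 2) (ResidueField R)) := by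
    intro h0
    refine pull 0 0 0 0 ?_
    rw [map_zero, zero_mul, sub_zero, ← hp]
    exact C₀.ev_mem_of_map_eq_zero (by simpa [p] using h0)
  rcases quad _ _ _ _ _ _ C₀.point hne hmem with ⟨y, z, hy, hz⟩ | ⟨w, pp, qq, rr, he⟩
  swap
  · exfalso
    obtain ⟨w, rfl⟩ := Ideal.Quotient.mk_surjective w
    obtain ⟨pp, rfl⟩ := Ideal.Quotient.mk_surjective pp
    obtain ⟨qq, rfl⟩ := Ideal.Quotient.mk_surjective qq
    obtain ⟨rr, rfl⟩ := Ideal.Quotient.mk_surjective rr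
    refine pull w pp qq rr ?_
    have := C₀.ev_mem_of_map_eq_zero (e := p - C w * (C pp * X 0 + C qq * X 1 + C rr) ^ 2) (by
      simp only [p, map_sub, map_add, map_mul, map_pow, map_C, map_X]
      rw [he]; exact sub_self _)
    convert this using 1
    rw [map_sub, hp]
    simp
    ring
  obtain ⟨y, rfl⟩ := Ideal.Quotient.mk_surjective y
  obtain ⟨z, rfl⟩ := Ideal.Quotient.mk_surjective z
  have hP := C₀.params_of_rational hy hz
  have hres := C₀.exists_residue hy hz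
  refine ⟨y, z, hP, hres, fun u l hl hm => ?_⟩
  set Y' := Y - φ y with hY'
  set Z' := Z - φ z with hZ'
  set x := φ a with hx
  -- the expansion at the point
  set d₁ := c₁ + c₂ * y + c₃ * z + c₄ * y ^ 2 + c₅ * (y * z) + c₆ * z ^ 2
  set d₂ := c₂ + 2 * (c₄ * y) + c₅ * z
  set d₃ := c₃ + c₅ * y + 2 * (c₆ * z)
  have hexp : g = φ d₁ + φ d₂ * Y' + φ d₃ * Z' + φ c₄ * Y' ^ 2 + φ c₅ * (Y' * Z') + φ c₆ * Z' ^ 2 := by
    rw [hg', hY', hZ']
    simp only [d₁, d₂, d₃, map_add, map_mul, map_pow, map_ofNat]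
    ring
  have h2q : φ c₄ * Y' ^ 2 + φ c₅ * (Y' * Z') + φ c₆ * Z' ^ 2 ∈ maximalIdeal R' ^ 2 :=
    add_mem (add_mem (Ideal.mul_mem_left _ _ (Ideal.pow_mem_pow hP.mem₂ 2))
      (Ideal.mul_mem_left _ _ (by rw [pow_two]; exact Ideal.mul_mem_mul hP.mem₂ hP.mem₃)))
      (Ideal.mul_mem_left _ _ (Ideal.pow_mem_pow hP.mem₃ 2))
  have h12 : φ d₁ + φ d₂ * Y' + φ d₃ * Z' ∈ maximalIdeal R' ^ 2 := by
    have := sub_mem hsing h2q
    convert this using 1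
    rw [hexp]; ring
  have hd₁ : d₁ ∈ maximalIdeal R := C₀.blow.mem_of_map_mem (by
    have h1 : φ d₂ * Y' + φ d₃ * Z' ∈ maximalIdeal R' :=
      add_mem (Ideal.mul_mem_left _ _ hP.mem₂) (Ideal.mul_mem_left _ _ hP.mem₃)
    have := sub_mem (Ideal.pow_le_self two_ne_zero h12) h1
    convert this using 1; ring)
  obtain ⟨e₁, he₁⟩ : ∃ e₁, φ d₁ = e₁ * x :=
    ⟨_, (Ideal.mem_span_singleton'.1 (C₀.param.le (Ideal.mem_map_of_mem φ hd₁))).choose_spec.symm⟩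
  obtain ⟨-, hd₂, hd₃⟩ := hP.lin_eq (α := e₁) (β := φ d₂) (γ := φ d₃) (by rwa [← he₁])
  obtain ⟨e₂, he₂⟩ := Ideal.mem_span_singleton'.1 (C₀.param.le (Ideal.mem_map_of_mem φ (C₀.blow.mem_of_map_mem hd₂)))
  obtain ⟨e₃, he₃⟩ := Ideal.mem_span_singleton'.1 (C₀.param.le (Ideal.mem_map_of_mem φ (C₀.blow.mem_of_map_mem hd₃)))
  obtain ⟨_, hxe, r₃, hr₃, hsum⟩ := Submodule.mem_sup.1 hm
  obtain ⟨e, rfl⟩ := Ideal.mem_span_singleton'.1 hxe
  obtain ⟨α, β, γ, rfl⟩ := hP.exists_lin hl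
  obtain ⟨u₀, hu₀⟩ := hres u
  obtain ⟨β₀, hβ₀⟩ := hres β
  obtain ⟨γ₀, hγ₀⟩ := hres γ
  have he' : e₁ - e ∈ maximalIdeal R' := by
    refine hP.mem_of_mul_mem_sq ?_
    have : x * (e₁ - e) = r₃ + u * (α * x + β * Y' + γ * Z') ^ 2 -
        (φ c₄ * Y' ^ 2 + φ c₅ * (Y' * Z') + φ c₆ * Z' ^ 2) - (x * e₂) * Y' - (x * e₃) * Z' := by
      have h' : e * x + r₃ = φ d₁ + φ d₂ * Y' + φ d₃ * Z' + φ c₄ * Y' ^ 2 + φ c₅ * (Y' * Z') + φ c₆ * Z' ^ 2
        - u * (α * x + β * Y' + γ * Z') ^ 2 := by rw [hsum, hexp]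
      rw [he₁, ← he₂, ← he₃] at h'
      linear_combination (-1) * h'
    rw [this]
    refine sub_mem (sub_mem (sub_mem (add_mem (Ideal.pow_le_pow_right (show 2 ≤ 3 by omega) hr₃)
      (Ideal.mul_mem_left _ _ (Ideal.pow_mem_pow hl 2))) h2q) ?_) ?_
    · rw [pow_two]; exact Ideal.mul_mem_mul (Ideal.mul_mem_right _ _ hP.mem₁) hP.mem₂
    · rw [pow_two]; exact Ideal.mul_mem_mul (Ideal.mul_mem_right _ _ hP.mem₁) hP.mem₃
  obtain ⟨k₁, k₂, k₃, hk⟩ := hP.exists_lin he'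
  obtain ⟨-, -, -, h4, h5, h6⟩ := hP.quad_eq (c₁ := k₁ - u * α ^ 2) (c₂ := k₂ + e₂ - 2 * (u * α * β))
    (c₃ := k₃ + e₃ - 2 * (u * α * γ)) (c₄ := φ c₄ - u * β ^ 2) (c₅ := φ c₅ - 2 * (u * β * γ))
    (c₆ := φ c₆ - u * γ ^ 2) (by
      convert hr₃ using 1
      have h' : e * x + r₃ = φ d₁ + φ d₂ * Y' + φ d₃ * Z' + φ c₄ * Y' ^ 2 + φ c₅ * (Y' * Z') + φ c₆ * Z' ^ 2
        - u * (α * x + β * Y' + γ * Z') ^ 2 := by rw [hsum, hexp]
      rw [he₁, ← he₂, ← he₃] at h'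
      linear_combination (-1) * h' - x * hk)
  have key : ∀ {w : R'} {w₀ c : R}, w - φ w₀ ∈ maximalIdeal R' → φ c - w ∈ maximalIdeal R' →
      φ (c - w₀) ∈ Ideal.span {x} := fun h1 h2 => by
    rw [← C₀.param]
    refine Ideal.mem_map_of_mem φ (C₀.blow.mem_of_map_mem ?_)
    rw [map_sub]
    have := add_mem h2 h1
    convert this using 1; ring
  have hu' : Ideal.Quotient.mk (maximalIdeal R') u = Ideal.Quotient.mk _ (φ u₀) := Ideal.Quotient.eq.2 hu₀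
  have hβ' : Ideal.Quotient.mk (maximalIdeal R') β = Ideal.Quotient.mk _ (φ β₀) := Ideal.Quotient.eq.2 hβ₀
  have hγ' : Ideal.Quotient.mk (maximalIdeal R') γ = Ideal.Quotient.mk _ (φ γ₀) := Ideal.Quotient.eq.2 hγ₀
  have k4 := key (w := u * β ^ 2) (w₀ := u₀ * β₀ ^ 2) (Ideal.Quotient.eq.1 (by
    simp only [map_mul, map_pow]; rw [← hu', ← hβ'])) h4
  have k5 := key (w := 2 * (u * β * γ)) (w₀ := 2 * (u₀ * β₀ * γ₀)) (Ideal.Quotient.eq.1 (by
    simp only [map_mul, map_ofNat]; rw [← hu', ← hβ', ← hγ'])) h5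
  have k6 := key (w := u * γ ^ 2) (w₀ := u₀ * γ₀ ^ 2) (Ideal.Quotient.eq.1 (by
    simp only [map_mul, map_pow]; rw [← hu', ← hγ'])) h6
  refine pull u₀ β₀ γ₀ (-(β₀ * y) - γ₀ * z) ?_
  rw [hexp, he₁, ← he₂, ← he₃, show e₁ * x + e₂ * x * Y' + e₃ * x * Z' + φ c₄ * Y' ^ 2 + φ c₅ * (Y' * Z') + φ c₆ * Z' ^ 2 -
      φ u₀ * (φ (-(β₀ * y) - γ₀ * z) + φ β₀ * Y + φ γ₀ * Z) ^ 2 =
    x * (e₁ + e₂ * Y' + e₃ * Z') + φ (c₄ - u₀ * β₀ ^ 2) * Y' ^ 2 + φ (c₅ - 2 * (u₀ * β₀ * γ₀)) * (Y' * Z') +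
      φ (c₆ - u₀ * γ₀ ^ 2) * Z' ^ 2 by
    rw [hY', hZ']; simp only [map_sub, map_neg, map_mul, map_pow, map_ofNat]; ring]
  exact add_mem (add_mem (add_mem (Ideal.mul_mem_right _ _ (Ideal.mem_span_singleton_self x))
    (Ideal.mul_mem_right _ _ k4)) (Ideal.mul_mem_right _ _ k5)) (Ideal.mul_mem_right _ _ k6)

/-- A double point which is no double line has rational successors of the same kind. -/
theorem stepN (L : Link φ f f') (hN : ¬ DW f) {a : R} (ha : (maximalIdeal R).map φ = Ideal.span {φ a}) :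
    (∀ r : R', ∃ r₀, r - φ r₀ ∈ maximalIdeal R') ∧ NS f' (φ a) := by
  obtain ⟨b, c, hP⟩ := exists_params (R := R) L.blow.dim₀ (L.blow.param_mem ha) (L.blow.param_notMem_sq₀ ha)
  obtain ⟨Y, Z, C₀⟩ := L.blow.exists_coord hP ha
  obtain ⟨g, v, hg, hg2, hv, rfl⟩ := L.exists_rep ha
  obtain ⟨y, z, -, hres, hns⟩ := stepN_aux C₀ L.mem hN hg hg2
  exact ⟨hres, hns.unit_mul hv⟩

/-- The exceptional parameter persists. -/
theorem stepNS (L : Link φ f f') {x : R} (hx : x ∈ maximalIdeal R) (hx2 : x ∉ maximalIdeal R ^ 2) (hN : NS f x) :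
    (maximalIdeal R).map φ = Ideal.span {φ x} := by
  obtain ⟨a, ha⟩ := L.blow.exists_some_param
  obtain ⟨X₀, hX⟩ := Blow.exists_div ha (n := 1) (by rw [pow_one]; exact hx)
  rw [pow_one] at hX
  by_cases hu : IsUnit X₀
  · exact Blow.param_of_isUnit ha hX hu
  exfalso
  have hXm : X₀ ∈ maximalIdeal R' := (IsLocalRing.mem_maximalIdeal _).2 hu
  have hind : ∀ r, x - r * a ∉ maximalIdeal R ^ 2 := fun r hr => by
    obtain ⟨e, he⟩ := Blow.exists_div ha hr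
    have h1 : X₀ = φ r + φ a * e := L.blow.cancel ha (n := 1) (by
      rw [map_sub, map_mul, hX] at he; linear_combination he)
    have h2 : r ∈ maximalIdeal R := L.blow.mem_of_map_mem (by
      have := sub_mem hXm (Ideal.mul_mem_right e _ (L.blow.param_mem' ha))
      rw [h1] at this; simpa using this)
    refine hx2 ?_
    have := add_mem hr (show r * a ∈ maximalIdeal R ^ 2 by
      rw [pow_two]; exact Ideal.mul_mem_mul h2 (L.blow.param_mem ha))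
    simpa using this
  obtain ⟨c, hP⟩ := exists_params_pair (R := R) L.blow.dim₀ (L.blow.param_mem ha) (L.blow.param_notMem_sq₀ ha) hx hind
  obtain ⟨Y, Z, C₀⟩ := L.blow.exists_coord hP ha
  have hY : Y = X₀ := L.blow.cancel ha (n := 1) (by rw [pow_one, ← C₀.eq₂, hX])
  subst hY
  obtain ⟨g, v, hg, hg2, hv, rfl⟩ := L.exists_rep ha
  obtain ⟨y, z, hP', -, -⟩ := stepN_aux C₀ L.mem hN.not_DW hg hg2
  have hy : y ∈ maximalIdeal R := L.blow.mem_of_map_mem (by simpa using sub_mem hXm hP'.mem₂)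
  obtain ⟨c₁, c₂, c₃, c₄, c₅, c₆, hq⟩ := C₀.params.exists_quad L.mem
  have hg' : g = φ c₁ + φ c₂ * Y + φ c₃ * Z + φ c₄ * Y ^ 2 + φ c₅ * (Y * Z) + φ c₆ * Z ^ 2 := by
    refine C₀.blow.cancel C₀.param (n := 2) ?_
    rw [← hg, hq]
    simp only [map_add, map_mul, map_pow, C₀.eq₂, C₀.eq₃]
    ring
  set Z' := Z - φ z with hZ'
  set d₁ := c₁ + c₃ * z + c₆ * z ^ 2
  set d₂ := c₂ + c₅ * z
  set d₃ := c₃ + 2 * (c₆ * z)
  have hYm : Y ∈ maximalIdeal R' := hXm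
  have hlin : φ d₁ + φ d₂ * Y + φ d₃ * Z' ∈ maximalIdeal R' ^ 2 := by
    have h' : φ d₁ + φ d₂ * Y + φ d₃ * Z' =
        g - (φ c₄ * Y ^ 2 + φ c₅ * (Y * Z') + φ c₆ * Z' ^ 2) := by
      rw [hg', hZ']; simp only [d₁, d₂, d₃, map_add, map_mul, map_pow, map_ofNat]; ring
    rw [h']
    refine sub_mem hg2 (add_mem (add_mem (Ideal.mul_mem_left _ _ (Ideal.pow_mem_pow hYm 2))
      (Ideal.mul_mem_left _ _ ?_)) (Ideal.mul_mem_left _ _ (Ideal.pow_mem_pow hP'.mem₃ 2)))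
    rw [pow_two]; exact Ideal.mul_mem_mul hYm hP'.mem₃
  have hd₁ : d₁ ∈ maximalIdeal R := L.blow.mem_of_map_mem (by
    have h1 : φ d₂ * Y + φ d₃ * Z' ∈ maximalIdeal R' :=
      add_mem (Ideal.mul_mem_left _ _ hYm) (Ideal.mul_mem_left _ _ hP'.mem₃)
    have := sub_mem (Ideal.pow_le_self two_ne_zero hlin) h1
    convert this using 1; ring)
  obtain ⟨e₁, he₁⟩ := Ideal.mem_span_singleton'.1 (ha.le (Ideal.mem_map_of_mem φ hd₁))
  obtain ⟨e₄, he₄⟩ := Ideal.mem_span_singleton'.1 (ha.le (Ideal.mem_map_of_mem φ hy))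
  obtain ⟨-, -, hd₃⟩ := hP'.lin_eq (α := e₁ + φ d₂ * e₄) (β := φ d₂) (γ := φ d₃) (by
    convert hlin using 1
    rw [← he₁, ← he₄, hZ']; ring)
  refine hN c₆ (c - z * a) ?_ ?_
  · exact sub_mem hP.mem₃ (Ideal.mul_mem_left _ _ hP.mem₁)
  rw [show f - c₆ * (c - z * a) ^ 2 = x * (c₂ * a + c₄ * x + c₅ * c) + (d₁ * (a * a) + d₃ * (a * (c - z * a))) by
    rw [hq]; simp only [d₁, d₃]; ring]
  refine Submodule.add_mem_sup (Ideal.mul_mem_right _ _ (Ideal.mem_span_singleton_self x)) (add_mem ?_ ?_)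
  · rw [pow_succ', pow_two]; exact Ideal.mul_mem_mul hd₁ (Ideal.mul_mem_mul hP.mem₁ hP.mem₁)
  · rw [pow_succ', pow_two]
    exact Ideal.mul_mem_mul (L.blow.mem_of_map_mem hd₃)
      (Ideal.mul_mem_mul hP.mem₁ (sub_mem hP.mem₃ (Ideal.mul_mem_left _ _ hP.mem₁)))

end Groth.L05.RDP
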