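import Groth.Agent.L05.RDP.StepD

/-! The successors of the states of a double line. -/

set_option autoImplicit false
set_option linter.style.haveILetI false
set_option backward.isDefEq.respectTransparency false
set_option backward.isDefEq.respectTransparency.types false
set_option maxHeartbeats 800000

universe u

noncomputable section

namespace Groth.L05.RDP

open IsLocalRing MvPolynomial

variable {R R' : Type u} [CommRing R] [IsRegularLocalRing R] [CommRing R'] [IsRegularLocalRing R']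
variable {φ : R →+* R'} {f : R} {f' : R'}

theorem setup_of (L : Link φ f f') {a b l u g₃ : R} {Y Z : R'} (C₀ : Coord φ a b l Y Z)
    (hg₃ : g₃ ∈ maximalIdeal R ^ 3) (hf : f = u * l ^ 2 + g₃) :
    ∃ (r g v : R') (p₃ : MvPolynomial (Fin 2) R), φ g₃ = φ a ^ 3 * r ∧ g = φ u * Z ^ 2 + φ a * r ∧
      g ∈ maximalIdeal R' ^ 2 ∧ IsUnit v ∧ f' = v * g ∧ Coord.ev φ Y Z p₃ = r ∧
      (lineRes (MvPolynomial.map (residue R) p₃)).natDegree ≤ 3 := by
  rw [← C₀.params.span_range] at hg₃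
  obtain ⟨F, hF, rfl⟩ := Groth.L07.QReg.exists_homogeneous_of_mem_span_pow _ 3 hg₃
  obtain ⟨g, v, hg, hg2, hv, hf'⟩ := L.exists_rep C₀.param
  refine ⟨_, g, v, _, C₀.eval_hom hF, ?_, hg2, hv, hf', rfl, ?_⟩
  · refine C₀.blow.cancel C₀.param (n := 2) ?_
    rw [← hg, hf, map_add, map_mul, map_pow, C₀.eq₃, C₀.eval_hom hF]
    ring
  · have h : MvPolynomial.map (residue R) (aeval ![(1 : MvPolynomial (Fin 2) R), X 0, X 1] F) =
        aeval ![(1 : MvPolynomial (Fin 2) (ResidueField R)), X 0, X 1] (MvPolynomial.map (residue R) F) := by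
      have h0 : (MvPolynomial.map (residue R)).comp (aeval ![(1 : MvPolynomial (Fin 2) R), X 0, X 1]).toRingHom =
          (aeval ![(1 : MvPolynomial (Fin 2) (ResidueField R)), X 0, X 1]).toRingHom.comp (MvPolynomial.map (residue R)) := by
        refine MvPolynomial.ringHom_ext (fun r => by simp [MvPolynomial.algebraMap_eq]) fun i => ?_
        fin_cases i <;> simp
      exact congrArg (fun g : _ →+* _ => g F) h0
    rw [h]
    exact natDegree_lineRes_le (hF.map _)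

/-- Coordinates adapted to the double line. -/
theorem exists_setup (L : Link φ f f') (hD : DW f) (hf3 : f ∉ maximalIdeal R ^ 3) {a : R}
    (ha : (maximalIdeal R).map φ = Ideal.span {φ a}) :
    ∃ (b l u : R) (Y Z r g v : R') (p₃ : MvPolynomial (Fin 2) R), Coord φ a b l Y Z ∧ IsUnit u ∧
      g = φ u * Z ^ 2 + φ a * r ∧ g ∈ maximalIdeal R' ^ 2 ∧ IsUnit v ∧ f' = v * g ∧ Coord.ev φ Y Z p₃ = r ∧
      (lineRes (MvPolynomial.map (residue R) p₃)).natDegree ≤ 3 := by
  obtain ⟨u, l, hl, hul⟩ := hD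
  have hu : IsUnit u := isUnit_of_notMem fun hu => hf3 (by
    have := add_mem hul (show u * l ^ 2 ∈ maximalIdeal R ^ 3 by
      rw [pow_succ' (maximalIdeal R)]; exact Ideal.mul_mem_mul hu (Ideal.pow_mem_pow hl 2))
    simpa using this)
  have hl2 : l ∉ maximalIdeal R ^ 2 := fun h => hf3 (by
    have := add_mem hul (show u * l ^ 2 ∈ maximalIdeal R ^ 3 from Ideal.mul_mem_left _ _
      (Ideal.pow_le_pow_right (show 3 ≤ 2 * 2 by omega) (by rw [pow_mul]; exact Ideal.pow_mem_pow h 2)))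
    simpa using this)
  obtain ⟨r', hr'⟩ := Blow.exists_div ha hul
  obtain ⟨g, v, hg, hg2, hv, hf'⟩ := L.exists_rep ha
  have hind : ∀ r, l - r * a ∉ maximalIdeal R ^ 2 := fun r hr => by
    obtain ⟨e, he⟩ := Blow.exists_div ha hr
    have h1 : g = φ u * (φ r + φ a * e) ^ 2 + φ a * r' := L.blow.cancel ha (n := 2) (by
      rw [map_sub, map_mul, sub_eq_iff_eq_add] at he
      rw [map_sub, map_mul, map_pow, sub_eq_iff_eq_add, hg, he] at hr'
      rw [hr']; ring)
    have h3 : φ u * (φ r + φ a * e) ^ 2 ∈ maximalIdeal R' := by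
      rw [eq_sub_of_add_eq h1.symm]
      exact sub_mem (Ideal.pow_le_self two_ne_zero hg2) (Ideal.mul_mem_right _ _ (L.blow.param_mem' ha))
    have h4 : φ r + φ a * e ∈ maximalIdeal R' :=
      Ideal.IsPrime.mem_of_pow_mem inferInstance 2 ((Ideal.unit_mul_mem_iff_mem _ (hu.map φ)).1 h3)
    have h2 : r ∈ maximalIdeal R := L.blow.mem_of_map_mem (by
      simpa using sub_mem h4 (Ideal.mul_mem_right e _ (L.blow.param_mem' ha)))
    refine hl2 ?_
    have := add_mem hr (show r * a ∈ maximalIdeal R ^ 2 by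
      rw [pow_two]; exact Ideal.mul_mem_mul h2 (L.blow.param_mem ha))
    simpa using this
  obtain ⟨b, hP⟩ := exists_params_pair L.blow.dim₀ (L.blow.param_mem ha) (L.blow.param_notMem_sq₀ ha) hl hind
  obtain ⟨Y, Z, C₀⟩ := L.blow.exists_coord hP.swap₂ ha
  obtain ⟨r, g', v', p₃, -, h1, h2, h3, h4, h5, h6⟩ :=
    setup_of L C₀ (u := u) hul (show f = u * l ^ 2 + (f - u * l ^ 2) by ring)
  exact ⟨b, l, u, Y, Z, r, g', v', p₃, C₀, hu, h1, h2, h3, h4, h5, h6⟩

theorem notMem_cube_of_unit_mul {A : Type u} [CommRing A] [IsLocalRing A] {v g : A} (hv : IsUnit v) {n : ℕ}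
    (h : g ∉ maximalIdeal A ^ n) : v * g ∉ maximalIdeal A ^ n :=
  fun h' => h ((Ideal.unit_mul_mem_iff_mem _ hv).1 h')

theorem of_unit_mul {P : R' → Prop} (hP : ∀ {g v : R'}, IsUnit v → P g → P (v * g)) {g v : R'} (hv : IsUnit v)
    (h : P (v * g)) : P g := by
  obtain ⟨v, rfl⟩ := hv
  simpa using hP (v⁻¹).isUnit h

/-- The multiplicity does not increase. -/
theorem stepD_notMem_cube (L : Link φ f f') (hD : DW f) (hf3 : f ∉ maximalIdeal R ^ 3) :
    f' ∉ maximalIdeal R' ^ 3 := by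
  obtain ⟨a, ha⟩ := L.blow.exists_some_param
  obtain ⟨b, l, u, Y, Z, r, g, v, p₃, C₀, hu, hg, hg2, hv, rfl, -, -⟩ := exists_setup L hD hf3 ha
  exact notMem_cube_of_unit_mul hv (D_notMem_cube C₀ hu hg hg2)

/-- A double line followed by a double line. -/
theorem stepD (L : Link φ f f') (hD : DW f) (hf3 : f ∉ maximalIdeal R ^ 3) (hNP : NP f') (hD' : DW f') {a : R}
    (ha : (maximalIdeal R).map φ = Ideal.span {φ a}) :
    (∀ w : R', ∃ w₀, w - φ w₀ ∈ maximalIdeal R') ∧ D1 f' (φ a) := by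
  obtain ⟨b, l, u, Y, Z, r, g, v, p₃, C₀, hu, hg, hg2, hv, rfl, hp₃, hdeg⟩ := exists_setup L hD hf3 ha
  obtain ⟨y, hP, hres, -, -, e, he⟩ := D_point C₀ hu hg hg2 (of_unit_mul NP.unit_mul hv hNP)
    (of_unit_mul (fun _ => DW.unit_mul) hv hD') p₃ hp₃ hdeg
  refine ⟨hres, D1.unit_mul hv ⟨φ u, Z + e * φ a, Y - φ y, r - φ u * (2 * (e * Z) + e ^ 2 * φ a), hu.map φ,
    ⟨?_, L.blow.dim⟩, ?_, by rw [hg]; ring⟩⟩
  · refine le_antisymm (Ideal.span_le.2 ?_) (hP.span ▸ Ideal.span_le.2 ?_)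
    · rintro w (rfl | rfl | rfl)
      · exact hP.mem₁
      · exact hP.mem₂
      · exact add_mem hP.mem₃ (Ideal.mul_mem_left _ _ hP.mem₁)
    · rintro w (h | h | h)
      · exact h ▸ Ideal.subset_span (by simp)
      · exact h ▸ Ideal.subset_span (by simp)
      · subst h
        rw [show w = (w + e * φ a) - e * φ a by ring]
        exact sub_mem (Ideal.subset_span (by simp)) (Ideal.mul_mem_left _ _ (Ideal.subset_span (by simp)))
  · refine hP.div_mem_sq ?_
    convert he using 1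
    rw [hg]; ring

/-- After a change of parameter two exceptional planes pass through the point. -/
theorem stepD1 (L : Link φ f f') {x : R} (hD : D1 f x) (hNP : NP f') (hD' : DW f') :
    (maximalIdeal R).map φ = Ideal.span {φ x} ∨
      ∃ a t, (maximalIdeal R).map φ = Ideal.span {φ a} ∧ Two f' (φ a) t := by
  obtain ⟨u, z, w, g₃, hu, hP, hg₃, hf⟩ := hD
  obtain ⟨a, ha⟩ := L.blow.exists_some_param
  obtain ⟨X₀, hX⟩ := Blow.exists_div ha (n := 1) (by rw [pow_one]; exact hP.mem₁)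
  rw [pow_one] at hX
  by_cases hXu : IsUnit X₀
  · exact Or.inl (Blow.param_of_isUnit ha hX hXu)
  refine Or.inr ?_
  have hXm : X₀ ∈ maximalIdeal R' := (IsLocalRing.mem_maximalIdeal _).2 hXu
  obtain ⟨Z₀, hZ₀⟩ := Blow.exists_div ha (n := 1) (by rw [pow_one]; exact hP.mem₃)
  rw [pow_one] at hZ₀
  obtain ⟨g₁, hg₁⟩ := Blow.exists_div ha hg₃
  obtain ⟨g, v, hg, hg2, hv, rfl⟩ := L.exists_rep ha
  have hgeq : g = φ u * Z₀ ^ 2 + φ a * (X₀ * g₁) := L.blow.cancel ha (n := 2) (by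
    rw [← hg, hf, map_add, map_mul, map_mul, map_pow, hX, hZ₀, hg₁]; ring)
  have hZm : Z₀ ∈ maximalIdeal R' := by
    have h2 : φ u * Z₀ ^ 2 ∈ maximalIdeal R' := by
      rw [eq_sub_of_add_eq hgeq.symm]
      exact sub_mem (Ideal.pow_le_self two_ne_zero hg2) (Ideal.mul_mem_right _ _ (L.blow.param_mem' ha))
    exact Ideal.IsPrime.mem_of_pow_mem inferInstance 2 ((Ideal.unit_mul_mem_iff_mem _ (hu.map φ)).1 h2)
  obtain ⟨α, β, γ, haeq⟩ := hP.exists_lin (L.blow.param_mem ha)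
  have hβ : IsUnit β := isUnit_of_notMem fun hβ => by
    obtain ⟨e, he⟩ := Blow.exists_div ha (n := 2) (g := β * w) (by rw [pow_two]; exact Ideal.mul_mem_mul hβ hP.mem₂)
    have h1 : 1 = φ α * X₀ + φ a * e + φ γ * Z₀ := L.blow.cancel ha (n := 1) (by
      have h := congrArg φ haeq
      rw [map_add, map_add, he, map_mul, map_mul, hX, hZ₀] at h
      linear_combination h)
    exact (maximalIdeal.isMaximal R').ne_top ((Ideal.eq_top_iff_one _).2 (h1 ▸ add_mem (add_mem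
      (Ideal.mul_mem_left _ _ hXm) (Ideal.mul_mem_right _ _ (L.blow.param_mem' ha))) (Ideal.mul_mem_left _ _ hZm)))
  have hP' : Params a x z := by
    refine ⟨le_antisymm (Ideal.span_le.2 ?_) ?_, hP.dim⟩
    · rintro q (rfl | rfl | rfl)
      exacts [L.blow.param_mem ha, hP.mem₁, hP.mem₃]
    · rw [← hP.span, Ideal.span_le]
      have hx' : x ∈ Ideal.span ({a, x, z} : Set R) := Ideal.subset_span (by simp)
      have hz' : z ∈ Ideal.span ({a, x, z} : Set R) := Ideal.subset_span (by simp)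
      rintro q (h | h | h)
      · exact h ▸ hx'
      · subst h
        refine (Ideal.unit_mul_mem_iff_mem _ hβ).1 ?_
        rw [show β * q = a - α * x - γ * z by rw [haeq]; ring]
        exact sub_mem (sub_mem (Ideal.subset_span (by simp)) (Ideal.mul_mem_left _ _ hx')) (Ideal.mul_mem_left _ _ hz')
      · exact h ▸ hz'
  obtain ⟨Y, Z, C₀⟩ := L.blow.exists_coord hP' ha
  obtain rfl : Y = X₀ := L.blow.cancel ha (n := 1) (by rw [pow_one, ← C₀.eq₂, hX])
  obtain rfl : Z = Z₀ := L.blow.cancel ha (n := 1) (by rw [pow_one, ← C₀.eq₃, hZ₀])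
  haveI := C₀.point_isMaximal
  have hY0 : (X 0 - C (residue R 0) : MvPolynomial (Fin 2) (ResidueField R)) ∈ C₀.point := by
    rw [map_zero, map_zero, sub_zero, show (X 0 : MvPolynomial (Fin 2) (ResidueField R)) =
      MvPolynomial.map (residue R) (X 0) by simp, C₀.map_mem_point]
    simpa using hXm
  have hZ0 : (X 1 - C (residue R 0) : MvPolynomial (Fin 2) (ResidueField R)) ∈ C₀.point := by
    rw [map_zero, map_zero, sub_zero, show (X 1 : MvPolynomial (Fin 2) (ResidueField R)) =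
      MvPolynomial.map (residue R) (X 1) by simp, C₀.map_mem_point]
    simpa using hZm
  have hQ : Params (φ a) Y Z := by simpa using C₀.params_of_rational hY0 hZ0
  refine ⟨a, Y, ha, Two.unit_mul hv ⟨φ u, Z, g₁, hu.map φ, hQ, ?_, by rw [hgeq]; ring⟩⟩
  obtain ⟨u', L', hL', hm⟩ := of_unit_mul (fun _ => DW.unit_mul) hv hD'
  obtain ⟨e, h₁, h₂, rfl⟩ := hQ.exists_lin hL'
  obtain ⟨he2, he12, -, -, -, -⟩ := hQ.quad_eq (c₁ := - (u' * e ^ 2)) (c₂ := g₁ - 2 * (u' * e * h₁))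
    (c₃ := - (2 * (u' * e * h₂))) (c₄ := - (u' * h₁ ^ 2)) (c₅ := -(2 * (u' * h₁ * h₂))) (c₆ := φ u - u' * h₂ ^ 2)
    (by convert hm using 1; rw [hgeq]; ring)
  have he3 : u' * e ^ 2 ∈ maximalIdeal R' := by simpa using neg_mem he2
  rcases Ideal.IsPrime.mem_or_mem inferInstance he3 with h | h
  · have := add_mem he12 (Ideal.mul_mem_left _ (2 * (e * h₁)) h)
    convert this using 1; ring
  · have := add_mem he12 (Ideal.mul_mem_left _ (2 * (u' * h₁)) (Ideal.IsPrime.mem_of_pow_mem inferInstance 2 h))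
    convert this using 1; ring

/-- Two exceptional planes, continued along the first one. -/
theorem stepTwo_aux (L : Link φ f f') {u x t z h : R} (hu : IsUnit u) (hP : Params x t z) (hh : h ∈ maximalIdeal R)
    (hf : f = u * z ^ 2 + x * t * h) (hNP : NP f') (hD' : DW f')
    (hx : (maximalIdeal R).map φ = Ideal.span {φ x}) :
    (∃ T, TwoS f' (φ x) T) ∧ h ∈ Ideal.span {t, z} ⊔ maximalIdeal R ^ 2 ∧
      (∀ w : R', ∃ w₀, w - φ w₀ ∈ maximalIdeal R') := by
  obtain ⟨T, Z, C₀⟩ := L.blow.exists_coord hP hx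
  have hg₃ : x * t * h ∈ maximalIdeal R ^ 3 := by
    rw [pow_succ, pow_two]; exact Ideal.mul_mem_mul (Ideal.mul_mem_mul hP.mem₁ hP.mem₂) hh
  obtain ⟨r, g, v, p₃, hr, hg, hg2, hv, rfl, hp₃, hdeg⟩ := setup_of L C₀ hg₃ hf
  obtain ⟨y, hQ, hres, hr2, hrI, -⟩ := D_point C₀ hu hg hg2 (of_unit_mul NP.unit_mul hv hNP)
    (of_unit_mul (fun _ => DW.unit_mul) hv hD') p₃ hp₃ hdeg
  obtain ⟨α, β, γ, rfl⟩ := hP.exists_lin hh
  have hreq : r = T * (φ α + φ β * T + φ γ * Z) := L.blow.cancel hx (n := 3) (by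
    rw [← hr]; simp only [map_add, map_mul, C₀.eq₂, C₀.eq₃]; ring)
  set T' := T - φ y with hT'
  set x' := φ x
  set d₀ := y * (α + β * y)
  set d₁ := α + 2 * (β * y)
  have hexp : r = φ d₀ + φ d₁ * T' + φ β * T' ^ 2 + T * φ γ * Z := by
    rw [hreq, hT']; simp only [d₀, d₁, map_add, map_mul, map_ofNat]; ring
  have hd₀ : d₀ ∈ maximalIdeal R := L.blow.mem_of_map_mem (by
    have hr1 : r ∈ maximalIdeal R' := (D_mem C₀ hu hg hg2).2
    have := sub_mem (sub_mem (sub_mem hr1 (Ideal.mul_mem_left _ (φ d₁) hQ.mem₂))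
      (Ideal.mul_mem_left _ (φ β) (Ideal.pow_le_self two_ne_zero (Ideal.pow_mem_pow hQ.mem₂ 2))))
      (Ideal.mul_mem_left _ (T * φ γ) hQ.mem₃)
    convert this using 1
    rw [hexp]; ring)
  obtain ⟨e₀, he₀⟩ := Ideal.mem_span_singleton'.1 (hx.le (Ideal.mem_map_of_mem φ hd₀))
  have hd₁ : d₁ ∈ maximalIdeal R := L.blow.mem_of_map_mem (by
    obtain ⟨w, hw, D, hD, hwD⟩ := Submodule.mem_sup.1 hr2
    obtain ⟨A, B, rfl⟩ := Ideal.mem_span_pair.1 hw
    exact (hQ.lin_eq (α := e₀ - A) (β := φ d₁) (γ := T * φ γ - B) (by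
      have := sub_mem hD (Ideal.mul_mem_left _ (φ β) (Ideal.pow_mem_pow hQ.mem₂ 2))
      convert this using 1
      rw [hexp, ← he₀] at hwD
      linear_combination (-1) * hwD)).2.1)
  have hmapI : ∀ {d : R}, d ∈ maximalIdeal R → φ d ∈ Ideal.span {x', Z} := fun hd =>
    Ideal.span_mono (show ({x'} : Set R') ⊆ {x', Z} by simp) (hx.le (Ideal.mem_map_of_mem φ hd))
  have hnot : ¬ (α ∈ maximalIdeal R ∧ β ∈ maximalIdeal R) := fun ⟨hα, hβ⟩ => hrI (by
    rw [hreq]
    exact Ideal.mul_mem_left _ _ (add_mem (add_mem (hmapI hα) (Ideal.mul_mem_right _ _ (hmapI hβ)))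
      (Ideal.mul_mem_left _ _ (Ideal.subset_span (by simp)))))
  have hy : y ∈ maximalIdeal R := by
    by_contra hy
    have hyu := isUnit_of_notMem hy
    have h1 : α + β * y ∈ maximalIdeal R := (Ideal.unit_mul_mem_iff_mem _ hyu).1 hd₀
    have h2 : β * y ∈ maximalIdeal R := by
      have := sub_mem hd₁ h1; convert this using 1; simp only [d₁]; ring
    exact hnot ⟨by simpa using sub_mem h1 h2, (Ideal.mul_unit_mem_iff_mem _ hyu).1 h2⟩
  have hα : α ∈ maximalIdeal R := by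
    have := sub_mem hd₁ (Ideal.mul_mem_left _ (2 * β) hy)
    convert this using 1; simp only [d₁]; ring
  have hβ : IsUnit β := isUnit_of_notMem fun h => hnot ⟨hα, h⟩
  obtain ⟨e, he⟩ := Ideal.mem_span_singleton'.1 (hx.le (Ideal.mem_map_of_mem φ hy))
  have hQ' : Params x' T Z := by
    refine ⟨le_antisymm (Ideal.span_le.2 ?_) (hQ.span ▸ Ideal.span_le.2 ?_), L.blow.dim⟩
    · rintro w (rfl | rfl | rfl)
      · exact hQ.mem₁
      · simpa [hT'] using add_mem hQ.mem₂ (L.blow.map_mem hy)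
      · exact hQ.mem₃
    · rintro w (h | h | h)
      · exact h ▸ Ideal.subset_span (by simp)
      · subst h
        rw [hT', ← he]
        exact sub_mem (Ideal.subset_span (by simp)) (Ideal.mul_mem_left _ _ (Ideal.subset_span (by simp)))
      · exact h ▸ Ideal.subset_span (by simp)
  refine ⟨⟨T, TwoS.unit_mul hv ⟨φ u, Z, φ α + φ β * T + φ γ * Z, hu.map φ, hQ',
    add_mem (add_mem (L.blow.map_mem hα) (Ideal.mul_mem_left _ _ hQ'.mem₂)) (Ideal.mul_mem_left _ _ hQ'.mem₃), ?_,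
    by rw [hg, hreq]; ring⟩⟩, ?_, hres⟩
  · intro hh'
    obtain ⟨w, hw, D, hD, hwD⟩ := Submodule.mem_sup.1 hh'
    obtain ⟨A, B, rfl⟩ := Ideal.mem_span_pair.1 hw
    obtain ⟨e₁, he₁⟩ := Ideal.mem_span_singleton'.1 (hx.le (Ideal.mem_map_of_mem φ hα))
    refine notMem_of_isUnit (hβ.map φ) (hQ'.lin_eq (α := e₁ - A) (β := φ β) (γ := φ γ - B) ?_).2.1
    convert hD using 1
    rw [← he₁] at hwD
    linear_combination (-1) * hwD
  · rw [show α * x + β * t + γ * z = (β * t + γ * z) + α * x by ring]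
    refine Submodule.add_mem_sup (add_mem (Ideal.mul_mem_left _ _ (Ideal.subset_span (by simp)))
      (Ideal.mul_mem_left _ _ (Ideal.subset_span (by simp)))) ?_
    rw [pow_two]; exact Ideal.mul_mem_mul hα hP.mem₁

/-- One of the two parameters is continued. -/
theorem exists_param_two (L : Link φ f f') {u x t z h : R} (hu : IsUnit u) (hP : Params x t z)
    (hh : h ∈ maximalIdeal R) (hf : f = u * z ^ 2 + x * t * h) :
    (maximalIdeal R).map φ = Ideal.span {φ x} ∨ (maximalIdeal R).map φ = Ideal.span {φ t} := by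
  obtain ⟨a, ha⟩ := L.blow.exists_some_param
  have hdiv : ∀ {q : R}, q ∈ maximalIdeal R → ∃ Q, φ q = φ a * Q := fun hq => by
    obtain ⟨Q, hQ⟩ := Blow.exists_div ha (n := 1) (by rw [pow_one]; exact hq)
    exact ⟨Q, by rw [hQ, pow_one]⟩
  obtain ⟨X₀, hX⟩ := hdiv hP.mem₁
  obtain ⟨T₀, hT⟩ := hdiv hP.mem₂
  obtain ⟨Z₀, hZ⟩ := hdiv hP.mem₃
  obtain ⟨H, hH⟩ := hdiv hh
  by_cases hXu : IsUnit X₀
  · exact Or.inl (Blow.param_of_isUnit ha hX hXu)
  by_cases hTu : IsUnit T₀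
  · exact Or.inr (Blow.param_of_isUnit ha hT hTu)
  exfalso
  obtain ⟨g, v, hg, hg2, -, -⟩ := L.exists_rep ha
  have hgeq : g = φ u * Z₀ ^ 2 + φ a * (X₀ * T₀ * H) := L.blow.cancel ha (n := 2) (by
    rw [← hg, hf, map_add, map_mul, map_mul, map_mul, map_pow, hX, hT, hZ, hH]; ring)
  have hZm : Z₀ ∈ maximalIdeal R' := by
    have h2 : φ u * Z₀ ^ 2 ∈ maximalIdeal R' := by
      rw [eq_sub_of_add_eq hgeq.symm]
      exact sub_mem (Ideal.pow_le_self two_ne_zero hg2) (Ideal.mul_mem_right _ _ (L.blow.param_mem' ha))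
    exact Ideal.IsPrime.mem_of_pow_mem inferInstance 2 ((Ideal.unit_mul_mem_iff_mem _ (hu.map φ)).1 h2)
  obtain ⟨α, β, γ, haeq⟩ := hP.exists_lin (L.blow.param_mem ha)
  have h1 : 1 = φ α * X₀ + φ β * T₀ + φ γ * Z₀ := L.blow.cancel ha (n := 1) (by
    have h := congrArg φ haeq
    rw [map_add, map_add, map_mul, map_mul, map_mul, hX, hT, hZ] at h
    linear_combination h)
  exact (maximalIdeal.isMaximal R').ne_top ((Ideal.eq_top_iff_one _).2 (h1 ▸ add_mem (add_mem
    (Ideal.mul_mem_left _ _ ((IsLocalRing.mem_maximalIdeal _).2 hXu))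
    (Ideal.mul_mem_left _ _ ((IsLocalRing.mem_maximalIdeal _).2 hTu))) (Ideal.mul_mem_left _ _ hZm)))

/-- From two planes exactly one parameter survives. -/
theorem stepTwo (L : Link φ f f') {x t : R} (hT : Two f x t) (hNP : NP f') (hD' : DW f') :
    ∃ a T, (maximalIdeal R).map φ = Ideal.span {φ a} ∧ TwoS f' (φ a) T := by
  obtain ⟨u, z, h, hu, hP, hh, hf⟩ := hT
  rcases exists_param_two L hu hP hh hf with hx | ht
  · obtain ⟨⟨T, hT⟩, -⟩ := stepTwo_aux L hu hP hh hf hNP hD' hx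
    exact ⟨x, T, hx, hT⟩
  · obtain ⟨⟨T, hT⟩, -⟩ := stepTwo_aux L hu hP.swap hh (by rw [hf]; ring) hNP hD' ht
    exact ⟨t, T, ht, hT⟩

/-- The surviving parameter survives for ever. -/
theorem stepTwoS (L : Link φ f f') {x t : R} (hT : TwoS f x t) (hNP : NP f') (hD' : DW f') :
    (maximalIdeal R).map φ = Ideal.span {φ x} ∧ ∃ T, TwoS f' (φ x) T := by
  obtain ⟨u, z, h, hu, hP, hh, hhn, hf⟩ := hT
  rcases exists_param_two L hu hP hh hf with hx | ht
  · exact ⟨hx, (stepTwo_aux L hu hP hh hf hNP hD' hx).1⟩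
  · exact absurd (stepTwo_aux L hu hP.swap hh (by rw [hf]; ring) hNP hD' ht).2.1 hhn

end Groth.L05.RDP
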