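import Groth.Agent.L05.RDP.Arc
import Groth.Agent.L05.RDP.StepN
import Groth.Agent.L05.RDP.StepTwo

/-! There is no infinite chain of singular points over a double point with normal completion. -/

set_option autoImplicit false
set_option linter.style.haveILetI false
set_option backward.isDefEq.respectTransparency false
set_option backward.isDefEq.respectTransparency.types false
set_option maxHeartbeats 800000

universe u

noncomputable section

namespace Groth.L05.RDP

open IsLocalRing

/-- The completion of `R` in which the zero locus of `f` is regular in codimension one. -/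
def NPCpl {R : Type u} [CommRing R] [IsRegularLocalRing R] (f : R) : Prop :=
  ∃ (Rh : Type u) (_ : CommRing Rh) (_ : IsRegularLocalRing Rh) (_ : IsAdicComplete (maximalIdeal Rh) Rh)
    (ι : R →+* Rh), ringKrullDim Rh = 3 ∧ (maximalIdeal R).map ι = maximalIdeal Rh ∧ NP (ι f)

variable {A : ℕ → Type u} [∀ n, CommRing (A n)] [∀ n, IsRegularLocalRing (A n)]
variable {φ : ∀ n, A n →+* A (n + 1)} {f : ∀ n, A n}

/-- The induced sequence of maps after a shift. -/
def shift (φ : ∀ n, A n →+* A (n + 1)) (N : ℕ) : ∀ k, A (N + k) →+* A (N + (k + 1)) := fun k => φ (N + k)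

theorem false_of_constant (L : ∀ n, Link (φ n) (f n) (f (n + 1))) (hcpl : ∀ n, NPCpl (f n)) (N : ℕ) (x : A N)
    (hx : x ∈ maximalIdeal (A N)) (hx2 : x ∉ maximalIdeal (A N) ^ 2)
    (hpar : ∀ k, (maximalIdeal (A (N + k))).map (φ (N + k)) =
      Ideal.span {φ (N + k) (comp (A := fun k => A (N + k)) (shift φ N) k x)})
    (hres : ∀ k (w : A (N + k + 1)), ∃ w₀, w - φ (N + k) w₀ ∈ maximalIdeal (A (N + k + 1))) : False := by
  have D : ArcData (A := fun k => A (N + k)) (shift φ N) (fun k => f (N + k)) x :=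
    ⟨fun k => L (N + k), hpar, hres⟩
  obtain ⟨y₀, z₀, h₀⟩ := exists_params (R := A N) (L N).blow.dim₀ hx hx2
  obtain ⟨Rh, _, _, _, ι, hdim, hι, hNP⟩ := hcpl N
  obtain ⟨p, q, r, hP, hmem⟩ := D.exists_arc hx h₀ ι hdim hι
  exact hNP p q r hP hmem

theorem notMem_cube (L : ∀ n, Link (φ n) (f n) (f (n + 1))) (h0 : f 0 ∉ maximalIdeal (A 0) ^ 3) :
    ∀ n, f n ∉ maximalIdeal (A n) ^ 3
  | 0 => h0
  | n + 1 => by
    by_cases hD : DW (f n)
    · exact stepD_notMem_cube (L n) hD (notMem_cube L h0 n)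
    · obtain ⟨a, ha⟩ := (L n).blow.exists_some_param
      exact (stepN (L n) hD ha).2.notMem_cube

/-- There is no infinite chain of double points. -/
theorem no_infinite_chain (L : ∀ n, Link (φ n) (f n) (f (n + 1))) (h0 : f 0 ∉ maximalIdeal (A 0) ^ 3)
    (hNP : ∀ n, NP (f n)) (hcpl : ∀ n, NPCpl (f n)) : False := by
  have h3 := notMem_cube L h0
  by_cases hN : ∃ n, ¬ DW (f n)
  · obtain ⟨n, hn⟩ := hN
    obtain ⟨a, ha⟩ := (L n).blow.exists_some_param
    obtain ⟨-, hns⟩ := stepN (L n) hn ha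
    set x := φ n a
    have inv : ∀ k, NS (f (n + 1 + k)) (comp (A := fun k => A (n + 1 + k)) (shift φ (n + 1)) k x) ∧
        comp (A := fun k => A (n + 1 + k)) (shift φ (n + 1)) k x ∈ maximalIdeal (A (n + 1 + k)) ∧
        comp (A := fun k => A (n + 1 + k)) (shift φ (n + 1)) k x ∉ maximalIdeal (A (n + 1 + k)) ^ 2 := by
      intro k
      induction k with
      | zero => exact ⟨hns, (L n).blow.param_mem' ha, (L n).blow.param_notMem_sq ha⟩
      | succ k ih =>
        have hp := stepNS (L (n + 1 + k)) ih.2.1 ih.2.2 ih.1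
        exact ⟨(stepN (L (n + 1 + k)) ih.1.not_DW hp).2, (L (n + 1 + k)).blow.param_mem' hp,
          (L (n + 1 + k)).blow.param_notMem_sq hp⟩
    refine false_of_constant L hcpl (n + 1) x (inv 0).2.1 (inv 0).2.2
      (fun k => stepNS (L (n + 1 + k)) (inv k).2.1 (inv k).2.2 (inv k).1) fun k => ?_
    exact (stepN (L (n + 1 + k)) (inv k).1.not_DW (stepNS (L (n + 1 + k)) (inv k).2.1 (inv k).2.2 (inv k).1)).1
  push Not at hN
  have hres : ∀ n (w : A (n + 1)), ∃ w₀, w - φ n w₀ ∈ maximalIdeal (A (n + 1)) := fun n => by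
    obtain ⟨a, ha⟩ := (L n).blow.exists_some_param
    exact (stepD (L n) (hN n) (h3 n) (hNP _) (hN _) ha).1
  -- once two planes are met, the parameter is constant
  have two : ∀ n (a t : A n), Two (f n) a t → False := by
    intro n a t hT
    obtain ⟨x₀, T, hx₀, hS⟩ := stepTwo (L n) hT (hNP _) (hN _)
    set x := φ n x₀
    have inv : ∀ k, ∃ T', TwoS (f (n + 1 + k)) (comp (A := fun k => A (n + 1 + k)) (shift φ (n + 1)) k x) T' := by
      intro k
      induction k with
      | zero => exact ⟨T, hS⟩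
      | succ k ih =>
        obtain ⟨T', hT'⟩ := ih
        exact (stepTwoS (L (n + 1 + k)) hT' (hNP _) (hN _)).2
    refine false_of_constant L hcpl (n + 1) x ((L n).blow.param_mem' hx₀) ((L n).blow.param_notMem_sq hx₀)
      (fun k => ?_) fun k => hres _
    obtain ⟨T', hT'⟩ := inv k
    exact (stepTwoS (L (n + 1 + k)) hT' (hNP _) (hN _)).1
  obtain ⟨a, ha⟩ := (L 0).blow.exists_some_param
  set x : A (0 + 1) := φ 0 a
  by_cases hall : ∀ k, (maximalIdeal (A (1 + k))).map (φ (1 + k)) =
      Ideal.span {φ (1 + k) (comp (A := fun k => A (1 + k)) (shift φ 1) k x)}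
  · exact false_of_constant L hcpl 1 x ((L 0).blow.param_mem' ha) ((L 0).blow.param_notMem_sq ha) hall fun k => hres _
  classical
  push Not at hall
  have hk := Nat.find_spec hall
  have hlt : ∀ j, j < Nat.find hall → (maximalIdeal (A (1 + j))).map (φ (1 + j)) =
      Ideal.span {φ (1 + j) (comp (A := fun k => A (1 + k)) (shift φ 1) j x)} := fun j hj =>
    not_not.1 (Nat.find_min hall hj)
  have hD1 : ∀ j, j ≤ Nat.find hall → D1 (f (1 + j)) (comp (A := fun k => A (1 + k)) (shift φ 1) j x) := by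
    intro j hj
    induction j with
    | zero => exact (stepD (L 0) (hN 0) (h3 0) (hNP _) (hN _) ha).2
    | succ j _ => exact (stepD (L (1 + j)) (hN _) (h3 _) (hNP _) (hN _) (hlt j hj)).2
  rcases stepD1 (L (1 + Nat.find hall)) (hD1 _ le_rfl) (hNP _) (hN _) with h | ⟨a', t, -, hT⟩
  · exact hk h
  · exact two _ _ t hT

end Groth.L05.RDP
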