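import Groth.Agent.L05.RDP.State
import Groth.Agent.L05.RatPow.Normal
import Groth.Agent.L13.BlowTwo.Regular
import Groth.Agent.L19.SquarePres
import Groth.Agent.L07.OrderValuation
import Mathlib.RingTheory.Jacobson.Ring
import Mathlib.RingTheory.IntegralClosure.IsIntegralClosure.Basic

/-! Localised charts of the blow-up of a regular local ring of dimension three. -/

set_option autoImplicit false
set_option linter.style.haveILetI false
set_option backward.isDefEq.respectTransparency false
set_option backward.isDefEq.respectTransparency.types false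
set_option maxHeartbeats 800000

universe u

noncomputable section

namespace Groth.L05.RDP

open IsLocalRing Groth.L13.BU Groth.L11.BlowSmooth

/-- Dimension of a localised quotient. -/
theorem ringKrullDim_quotient_localization {B : Type u} [CommRing B] (J : Ideal B) (P : Ideal B) [P.IsPrime]
    (hJ : J ≤ P) : ringKrullDim (Localization.AtPrime P ⧸ J.map (algebraMap B (Localization.AtPrime P))) =
      (P.map (Ideal.Quotient.mk J)).height := by
  let R := Localization.AtPrime P
  let J' := J.map (algebraMap B R)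
  let P' : Ideal (B ⧸ J) := P.map (Ideal.Quotient.mk J)
  haveI : P'.IsPrime := Ideal.map_isPrime_of_surjective Ideal.Quotient.mk_surjective (by rwa [Ideal.mk_ker])
  have hmem : ∀ b : B, Ideal.Quotient.mk J b ∈ P' ↔ b ∈ P := fun b => by
    rw [← Ideal.mem_comap, Ideal.comap_map_of_surjective' _ Ideal.Quotient.mk_surjective, Ideal.mk_ker,
      sup_eq_left.mpr hJ]
  letI : Algebra (B ⧸ J) (R ⧸ J') := (Ideal.quotientMap J' (algebraMap B R) Ideal.le_comap_map).toAlgebra
  have hmk : ∀ b : B, algebraMap (B ⧸ J) (R ⧸ J') (Ideal.Quotient.mk J b) = Ideal.Quotient.mk J' (algebraMap B R b) :=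
    fun b => Ideal.quotientMap_mk
  haveI : IsLocalization.AtPrime (R ⧸ J') P' := by
    refine (isLocalization_iff _ _).mpr ⟨?_, ?_, ?_⟩
    · rintro ⟨x, hx⟩
      obtain ⟨b, rfl⟩ := Ideal.Quotient.mk_surjective x
      rw [hmk]
      exact (IsLocalization.map_units R (⟨b, fun h => hx ((hmem b).mpr h)⟩ : P.primeCompl)).map _
    · intro z
      obtain ⟨z, rfl⟩ := Ideal.Quotient.mk_surjective z
      obtain ⟨⟨b, t⟩, ht⟩ := IsLocalization.surj P.primeCompl z
      refine ⟨⟨Ideal.Quotient.mk J b, ⟨Ideal.Quotient.mk J t, fun h => t.2 ((hmem _).mp h)⟩⟩, ?_⟩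
      rw [hmk, hmk, ← map_mul, ht]
    · intro x y hxy
      obtain ⟨a, rfl⟩ := Ideal.Quotient.mk_surjective x
      obtain ⟨b, rfl⟩ := Ideal.Quotient.mk_surjective y
      rw [hmk, hmk, Ideal.Quotient.eq, ← map_sub,
        IsLocalization.algebraMap_mem_map_algebraMap_iff P.primeCompl] at hxy
      obtain ⟨t, ht, htj⟩ := hxy
      refine ⟨⟨Ideal.Quotient.mk J t, fun h => ht ((hmem _).mp h)⟩, ?_⟩
      rw [← map_mul, ← map_mul, Ideal.Quotient.eq, ← mul_sub]
      exact htj
  exact IsLocalization.AtPrime.ringKrullDim_eq_height P' (R ⧸ J')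

variable {R : Type u} [CommRing R] [IsRegularLocalRing R]

/-- The point of the chart of `a`, localised. -/
abbrev chartMap (f : Fin 3 → R) (q : Ideal (SC f 0)) [q.IsPrime] : R →+* Localization.AtPrime q :=
  (algebraMap (SC f 0) (Localization.AtPrime q)).comp (sh f 0)

theorem blow_chartMap {f : Fin 3 → R} (hP : Params (f 0) (f 1) (f 2)) (q : Ideal (SC f 0)) [hq : q.IsMaximal]
    (hqm : maximalIdeal R ≤ q.comap (sh f 0)) :
    ∃ _ : IsRegularLocalRing (Localization.AtPrime q), Blow (chartMap f q) ∧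
      (maximalIdeal R).map (chartMap f q) = Ideal.span {chartMap f q (f 0)} := by
  haveI := Groth.L01.isDomain_of_regular R
  have hf3 : f = ![f 0, f 1, f 2] := by funext i; fin_cases i <;> rfl
  have hqr : CAlgX.IsQuasiRegular f := by rw [hf3]; exact hP.qreg
  have hsI : sI f = maximalIdeal R := by
    show Ideal.span (Set.range f) = maximalIdeal R
    rw [← hP.span_range, ← hf3]
  have ha0 : f 0 ≠ 0 := Groth.L01.ne_zero_of_notMem_sq hP.notMem_sq₁
  set α : (SC f 0) := sh f 0 (f 0) with hα
  haveI : IsDomain (SC f 0) := Groth.L05.RatPow.chart_isDomain (sI f) (f 0) (mem_pow_one f 0) ha0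
  have hshinj : Function.Injective (sh f 0) := (injective_iff_map_eq_zero (sh f 0)).2 fun r hr => by
    rw [sh, chartHom_apply] at hr
    exact (Groth.L05.RatPow.chart_eq_zero_iff (sI f) (f 0) (mem_pow_one f 0) ha0 _).1 hr
  set φ := chartMap f q
  have hαq : α ∈ q := hqm hP.mem₁
  haveI hreg : IsRegularLocalRing (Localization.AtPrime q) := Groth.Agent.L13.BlowTwo.regular_chart f
    (hsI ▸ maximalIdeal.isMaximal R) hqr 0 q hαq
  haveI := Groth.L01.isDomain_of_regular (Localization.AtPrime q)
  have hE : (sI f).map (sh f 0) = Ideal.span {α} := map_ideal (sI f) (f 0) (mem_pow_one f 0)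
  have hmap : (maximalIdeal R).map φ = Ideal.span {φ (f 0)} := by
    rw [← hsI, show φ = (algebraMap (SC f 0) (Localization.AtPrime q)).comp (sh f 0) from rfl, ← Ideal.map_map, hE, Ideal.map_span,
      Set.image_singleton]
    rfl
  haveI hmax : (sI f).IsMaximal := hsI ▸ maximalIdeal.isMaximal R
  letI := Ideal.Quotient.field (sI f)
  let e : MvPolynomial {j // j ≠ (0 : Fin 3)} (R ⧸ sI f) ≃+* (SC f 0) ⧸ (sI f).map (sh f 0) :=
    RingEquiv.ofBijective (pres f 0) ⟨pres_injective f 0 hqr, pres_surjective f 0⟩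
  have hEle : (sI f).map (sh f 0) ≤ q := by
    rw [hE, Ideal.span_le, Set.singleton_subset_iff]; exact hαq
  haveI hEp : ((sI f).map (sh f 0)).IsPrime := by
    rw [← Ideal.Quotient.isDomain_iff_prime]
    exact (MulEquiv.isDomain _ e.symm.toMulEquiv)
  set qb := q.map (Ideal.Quotient.mk ((sI f).map (sh f 0)))
  haveI : qb.IsMaximal := (Ideal.map_eq_top_or_isMaximal_of_surjective _ Ideal.Quotient.mk_surjective hq).resolve_left fun h => hq.ne_top (by
    rw [← Ideal.comap_top (f := Ideal.Quotient.mk ((sI f).map (sh f 0))), ← h, Ideal.comap_map_of_surjective' _ Ideal.Quotient.mk_surjective, Ideal.mk_ker, sup_eq_left.mpr hEle])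
  have hht : qb.height = 2 := by
    let e' : MvPolynomial (Fin 2) (R ⧸ sI f) ≃+* (SC f 0) ⧸ (sI f).map (sh f 0) :=
      (MvPolynomial.renameEquiv (R ⧸ sI f) (finSuccAboveEquiv (0 : Fin 3))).toRingEquiv.trans e
    haveI : (qb.comap e').IsMaximal := Ideal.comap_isMaximal_of_surjective _ e'.surjective
    rw [← RingEquiv.height_comap e' qb]
    exact Groth.L19.SquarePres.height_maximal (qb.comap e')
  have hx : φ (f 0) ∈ maximalIdeal (Localization.AtPrime q) := (IsLocalization.AtPrime.to_map_mem_maximal_iff (Localization.AtPrime q) q α).2 hαq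
  have hxne : φ (f 0) ≠ 0 := fun h => by
    have := IsLocalization.injective (Localization.AtPrime q) q.primeCompl_le_nonZeroDivisors (h.trans (map_zero _).symm)
    exact nonZeroDivisors.ne_zero (chartHom_nonZeroDivisor (sI f) (f 0) (mem_pow_one f 0)) this
  have hdimq : ringKrullDim ((Localization.AtPrime q) ⧸ Ideal.span {φ (f 0)}) = 2 := by
    have h1 := ringKrullDim_quotient_localization ((sI f).map (sh f 0)) q hEle
    rw [hht] at h1
    rw [← ringKrullDim_eq_of_ringEquiv (Ideal.quotEquivOfEq (show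
      ((sI f).map (sh f 0)).map (algebraMap (SC f 0) (Localization.AtPrime q)) = Ideal.span {φ (f 0)} by
        rw [hE, Ideal.map_span, Set.image_singleton]; rfl))]
    exact h1
  have hdim : ringKrullDim (Localization.AtPrime q) = 3 := by
    rw [← ringKrullDim_quotient_span_singleton_succ_eq_ringKrullDim_of_mem_nonZeroDivisors
      (mem_nonZeroDivisors_of_ne_zero hxne) hx, hdimq]
    rfl
  have hx2 : φ (f 0) ∉ maximalIdeal (Localization.AtPrime q) ^ 2 := by
    intro h2
    haveI : IsRegularRing ((SC f 0) ⧸ (sI f).map (sh f 0)) := IsRegularRing.of_ringEquiv e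
    haveI hregq : IsRegularLocalRing ((Localization.AtPrime q) ⧸ Ideal.span {φ (f 0)}) := by
      have := Groth.L01.RootExt.isRegularLocalRing_quotient_localization ((sI f).map (sh f 0)) q hEle
      exact IsRegularLocalRing.of_ringEquiv (Ideal.quotEquivOfEq (show
        ((sI f).map (sh f 0)).map (algebraMap (SC f 0) (Localization.AtPrime q)) = Ideal.span {φ (f 0)} by
          rw [hE, Ideal.map_span, Set.image_singleton]; rfl))
    classical
    have hs := IsRegularLocalRing.spanFinrank_maximalIdeal (R := (Localization.AtPrime q) ⧸ Ideal.span {φ (f 0)})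
    rw [hdimq] at hs
    norm_cast at hs
    have hfg : (maximalIdeal ((Localization.AtPrime q) ⧸ Ideal.span {φ (f 0)})).FG := Ideal.fg_of_isNoetherianRing _
    set G := Function.surjInv Ideal.Quotient.mk_surjective '' (maximalIdeal ((Localization.AtPrime q) ⧸ Ideal.span {φ (f 0)})).generators
    have hG : Ideal.span (Ideal.Quotient.mk (Ideal.span {φ (f 0)}) '' G) = maximalIdeal ((Localization.AtPrime q) ⧸ Ideal.span {φ (f 0)}) := by
      rw [← Set.image_comp, (funext (Function.surjInv_eq _) :
        Ideal.Quotient.mk (Ideal.span {φ (f 0)}) ∘ Function.surjInv Ideal.Quotient.mk_surjective = id), Set.image_id]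
      exact Submodule.span_generators _
    have hGf : G.Finite := (Submodule.FG.finite_generators hfg).image _
    have hGc : G.ncard ≤ 2 :=
      (Set.ncard_image_le (Submodule.FG.finite_generators hfg)).trans ((Submodule.FG.generators_ncard hfg).trans hs).le
    have hspan := Groth.L01.maximalIdeal_eq_span_insert hx hG
    rw [Ideal.span_insert] at hspan
    have hm : maximalIdeal (Localization.AtPrime q) = Ideal.span G := le_antisymm (Groth.L01.maximalIdeal_le_of_le_sup_sq (hspan.symm.le.trans
      (sup_le (((Ideal.span_singleton_le_iff_mem _).2 h2).trans le_sup_right) le_sup_left)))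
      (le_sup_right.trans hspan.le)
    have h3 := IsRegularLocalRing.spanFinrank_maximalIdeal (R := (Localization.AtPrime q))
    rw [hdim, hm, Ideal.span] at h3
    have h4 := Submodule.spanFinrank_span_le_ncard_of_finite (R := (Localization.AtPrime q)) hGf
    norm_cast at h3
    omega
  obtain ⟨ι₀, hι₀⟩ : ∃ ι₀ : SC f 0 →+* Localization.AtPrime q, ι₀ = algebraMap (SC f 0) (Localization.AtPrime q) := ⟨_, rfl⟩
  refine ⟨hreg, ⟨hP.dim, hdim, ?_, ⟨f 0, hP.mem₁, hmap, hx, hx2⟩, ?_, ?_, ?_⟩, hmap⟩
  · intro r s h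
    exact hshinj (IsLocalization.injective (Localization.AtPrime q) q.primeCompl_le_nonZeroDivisors h)
  · intro r
    obtain ⟨⟨z, s, hs⟩, hzs⟩ := IsLocalization.surj q.primeCompl r
    obtain ⟨n, c₀, hc₀, rfl⟩ := frac_surjective (sI f) (f 0) (mem_pow_one f 0) z
    obtain ⟨m, e₀, he₀, rfl⟩ := frac_surjective (sI f) (f 0) (mem_pow_one f 0) s
    have hu : IsUnit (algebraMap (SC f 0) (Localization.AtPrime q) (frac (sI f) (f 0) (mem_pow_one f 0) m e₀ he₀)) :=
      IsLocalization.map_units (Localization.AtPrime q) (⟨_, hs⟩ : q.primeCompl)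
    have hpc : ∀ (k : ℕ) (w : R) (hw : w ∈ sI f ^ k),
        φ w = φ (f 0) ^ k * algebraMap (SC f 0) (Localization.AtPrime q) (frac (sI f) (f 0) (mem_pow_one f 0) k w hw) := fun k w hw => by
      have e1 : φ w = algebraMap (SC f 0) (Localization.AtPrime q) (sh f 0 w) := RingHom.comp_apply _ _ _
      have e2 : φ (f 0) = algebraMap (SC f 0) (Localization.AtPrime q) (sh f 0 (f 0)) := RingHom.comp_apply _ _ _
      refine (e1.trans ?_)
      rw [e2, ← map_pow (algebraMap (SC f 0) (Localization.AtPrime q)), ← map_mul (algebraMap (SC f 0) (Localization.AtPrime q))]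
      exact congrArg _ (pow_mul_frac (sI f) (f 0) (mem_pow_one f 0) k w hw).symm
    have hapow : ∀ k, f 0 ^ k ∈ maximalIdeal R ^ k := fun k => Ideal.pow_mem_pow hP.mem₁ k
    refine ⟨n + m, c₀ * f 0 ^ m, f 0 ^ n * e₀, ?_, ?_, ?_, ?_⟩
    · rw [pow_add]; exact Ideal.mul_mem_mul (hsI ▸ hc₀) (hapow m)
    · rw [pow_add]; exact Ideal.mul_mem_mul (hapow n) (hsI ▸ he₀)
    · rw [map_mul, map_pow, hpc m e₀ he₀, hmap, Ideal.span_singleton_pow, ← mul_assoc, ← pow_add,
        Ideal.span_singleton_mul_right_unit hu]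
    · rw [map_mul, map_pow, map_mul, map_pow, hpc m e₀ he₀, hpc n c₀ hc₀]
      rw [show r * (φ (f 0) ^ n * (φ (f 0) ^ m * algebraMap (SC f 0) (Localization.AtPrime q) (frac (sI f) (f 0) (mem_pow_one f 0) m e₀ he₀))) =
        φ (f 0) ^ n * φ (f 0) ^ m * (r * algebraMap (SC f 0) (Localization.AtPrime q) (frac (sI f) (f 0) (mem_pow_one f 0) m e₀ he₀)) by ring, hzs]
      ring
  · intro j g hg hgm
    rw [← hsI] at hg
    rw [hmap, Ideal.span_singleton_pow] at hgm
    obtain ⟨v, hv⟩ := Ideal.mem_span_singleton'.1 hgm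
    obtain ⟨F, hF⟩ : ∃ F : Localization.AtPrime q,
        F = ι₀ (frac (sI f) (f 0) (mem_pow_one f 0) j g hg) := ⟨_, rfl⟩
    have h2 : φ g = φ (f 0) ^ j * F := by
      have e1 : φ g = ι₀ (sh f 0 g) := by rw [hι₀]; exact RingHom.comp_apply _ _ _
      have e2 : φ (f 0) = ι₀ (sh f 0 (f 0)) := by rw [hι₀]; exact RingHom.comp_apply _ _ _
      refine (e1.trans ?_)
      rw [e2, hF, ← map_pow ι₀, ← map_mul ι₀]
      exact congrArg _ (pow_mul_frac (sI f) (f 0) (mem_pow_one f 0) j g hg).symm
    have h1 : F ∈ Ideal.span {φ (f 0)} :=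
      Ideal.mem_span_singleton'.2 ⟨v, mul_left_cancel₀ (pow_ne_zero j hxne) (by rw [← h2, ← hv]; ring)⟩
    rw [show Ideal.span {φ (f 0)} = ((sI f).map (sh f 0)).map (algebraMap (SC f 0) (Localization.AtPrime q)) by
      rw [hE, Ideal.map_span, Set.image_singleton]; rfl, hF, hι₀] at h1
    rw [IsLocalization.algebraMap_mem_map_algebraMap_iff q.primeCompl] at h1
    obtain ⟨s, hs, hsm⟩ := h1
    have h3 := (hEp.mem_or_mem hsm).resolve_left fun h => hs (hEle h)
    rw [hE] at h3
    obtain ⟨w, hw⟩ := Ideal.mem_span_singleton'.1 h3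
    obtain ⟨l, e₀, he₀, rfl⟩ := frac_surjective (sI f) (f 0) (mem_pow_one f 0) w
    have h4 : f 0 ^ l * g = f 0 ^ (j + 1) * e₀ := by
      have h5 := congrArg (fun z => sh f 0 (f 0) ^ (l + j) * z) hw
      simp only [hα] at h5
      have h6 : sh f 0 (f 0 ^ (j + 1) * e₀) = sh f 0 (f 0 ^ l * g) := by
        rw [map_mul, map_mul, map_pow, map_pow, ← pow_mul_frac (sI f) (f 0) (mem_pow_one f 0) j g hg,
          ← pow_mul_frac (sI f) (f 0) (mem_pow_one f 0) l e₀ he₀]
        exact (Eq.trans (by ring) h5).trans (by ring)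
      exact (hshinj h6).symm
    rw [← hsI]
    by_contra hc
    have hao : Groth.L07.Order.HasOrd (f 0 ^ l) l := by
      induction l with
      | zero => simpa using Groth.L07.Order.hasOrd_one (A := R)
      | succ l ih =>
        clear ih
        have hk : ∀ k, Groth.L07.Order.HasOrd (f 0 ^ k) k := fun k => by
          induction k with
          | zero => simpa using Groth.L07.Order.hasOrd_one (A := R)
          | succ k ihk => rw [pow_succ]; exact ihk.mul ⟨by simpa using hP.mem₁, hP.notMem_sq₁⟩
        exact hk _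
    have h8 := hao.mul (show Groth.L07.Order.HasOrd g j from ⟨hsI ▸ hg, by rwa [hsI] at hc⟩)
    refine h8.2 ?_
    rw [h4, show l + j + 1 = j + 1 + l by omega, pow_add]
    exact Ideal.mul_mem_mul (Ideal.pow_mem_pow hP.mem₁ _) (hsI ▸ he₀)
  · haveI : q.IsPrime := inferInstance
    letI := Ideal.Quotient.field q
    let g₀ : R ⧸ maximalIdeal R →+* (SC f 0) ⧸ q := Ideal.Quotient.lift _ ((Ideal.Quotient.mk q).comp (sh f 0))
      fun x hx => Ideal.Quotient.eq_zero_iff_mem.2 (hqm hx)
    have hft : (sh f 0).FiniteType := by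
      letI : Algebra R (SC f 0) := (sh f 0).toAlgebra
      let ψ : MvPolynomial (Fin 3) R →ₐ[R] (SC f 0) := MvPolynomial.aeval (sfr f 0)
      exact Algebra.FiniteType.of_surjective ψ (Groth.Agent.L13.BlowTwo.ev_surjective f 0)
    have hg₀ : g₀.FiniteType := by
      refine RingHom.FiniteType.of_comp_finiteType (f := Ideal.Quotient.mk (maximalIdeal R)) ?_
      exact (RingHom.FiniteType.of_surjective _ Ideal.Quotient.mk_surjective).comp hft
    have hfin : g₀.Finite := by
      letI : Field (R ⧸ maximalIdeal R) := Ideal.Quotient.field _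
      letI : Algebra (R ⧸ maximalIdeal R) ((SC f 0) ⧸ q) := g₀.toAlgebra
      haveI : Algebra.FiniteType (R ⧸ maximalIdeal R) ((SC f 0) ⧸ q) := hg₀
      exact finite_of_finite_type_of_isJacobsonRing (R ⧸ maximalIdeal R) ((SC f 0) ⧸ q)
    let g₂ : SC f 0 →+* ResidueField (Localization.AtPrime q) := (residue (Localization.AtPrime q)).comp ι₀
    have hmem : ∀ z ∈ q, residue (Localization.AtPrime q) (ι₀ z) = 0 := fun z hz => by
      rw [hι₀, residue_eq_zero_iff]
      exact (IsLocalization.AtPrime.to_map_mem_maximal_iff (Localization.AtPrime q) q z).2 hz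
    let e₂ : SC f 0 ⧸ q →+* ResidueField (Localization.AtPrime q) := Ideal.Quotient.lift q g₂ hmem
    have he₂ : Function.Surjective e₂ := by
      intro w
      obtain ⟨w, rfl⟩ := Ideal.Quotient.mk_surjective w
      obtain ⟨⟨z, s, hs⟩, hzs⟩ := IsLocalization.surj q.primeCompl w
      obtain ⟨v, i, hi, hv⟩ := hq.exists_inv hs
      refine ⟨Ideal.Quotient.mk q (v * z), ?_⟩
      show residue (Localization.AtPrime q) (ι₀ (v * z)) = residue (Localization.AtPrime q) w
      have hzs' : w * ι₀ s = ι₀ z := by rw [hι₀]; exact hzs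
      have h1 := congrArg (fun t => residue (Localization.AtPrime q) (ι₀ t)) hv
      simp only [map_add, map_mul, hmem i hi, add_zero, map_one] at h1
      rw [map_mul ι₀, ← hzs', map_mul, map_mul]
      linear_combination (residue (Localization.AtPrime q) w) * h1
    have h : (residue (Localization.AtPrime q)).comp φ = e₂.comp (g₀.comp (Ideal.Quotient.mk (maximalIdeal R))) := by
      refine RingHom.ext fun z => ?_
      show residue (Localization.AtPrime q) (φ z) = residue (Localization.AtPrime q) (ι₀ (sh f 0 z))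
      rw [hι₀]; rfl
    rw [h]
    exact RingHom.IsIntegral.trans _ _ (RingHom.IsIntegral.trans _ _
      (RingHom.isIntegral_of_surjective _ Ideal.Quotient.mk_surjective) hfin.to_isIntegral)
      (RingHom.isIntegral_of_surjective _ he₂)

end Groth.L05.RDP
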