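import Groth.Agent.L05.RDP.Blow

/-! The states of a double point and their behaviour under unit factors. -/

set_option autoImplicit false
set_option linter.style.haveILetI false
set_option backward.isDefEq.respectTransparency false
set_option backward.isDefEq.respectTransparency.types false

universe u

noncomputable section

namespace Groth.L05.RDP

open IsLocalRing

variable {R R' : Type u} [CommRing R] [IsRegularLocalRing R] [CommRing R'] [IsRegularLocalRing R']

local notation "𝔪" => maximalIdeal R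

theorem isUnit_of_notMem {A : Type*} [CommRing A] [IsLocalRing A] {x : A} (h : x ∉ maximalIdeal A) : IsUnit x := by
  rwa [IsLocalRing.mem_maximalIdeal, mem_nonunits_iff, not_not] at h

theorem notMem_of_isUnit {A : Type*} [CommRing A] [IsLocalRing A] {x : A} (h : IsUnit x) : x ∉ maximalIdeal A :=
  fun hx => (IsLocalRing.mem_maximalIdeal _).1 hx h

/-- The tangent cone is a double line. -/
def DW (f : R) : Prop := ∃ u l, l ∈ maximalIdeal R ∧ f - u * l ^ 2 ∈ maximalIdeal R ^ 3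

/-- The trace of the tangent cone on the exceptional line of `x` is not a double point. -/
def NS (f x : R) : Prop :=
  ∀ u l, l ∈ maximalIdeal R → f - u * l ^ 2 ∉ Ideal.span {x} ⊔ maximalIdeal R ^ 3

/-- A double line transversal to the exceptional plane of `x`. -/
def D1 (f x : R) : Prop :=
  ∃ u z w g, IsUnit u ∧ Params x w z ∧ g ∈ maximalIdeal R ^ 2 ∧ f = u * z ^ 2 + x * g

/-- Two exceptional planes. -/
def Two (f x t : R) : Prop :=
  ∃ u z h, IsUnit u ∧ Params x t z ∧ h ∈ maximalIdeal R ∧ f = u * z ^ 2 + x * t * h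

/-- Two exceptional planes, only the first of which can be continued. -/
def TwoS (f x t : R) : Prop :=
  ∃ u z h, IsUnit u ∧ Params x t z ∧ h ∈ maximalIdeal R ∧ h ∉ Ideal.span {x, z} ⊔ maximalIdeal R ^ 2 ∧
    f = u * z ^ 2 + x * t * h

/-- The property of normality used in the descent. -/
def NP (f : R) : Prop := ∀ p q r, Params p q r → f ∉ Ideal.span {p, q} ^ 2

theorem TwoS.two {f x t : R} (h : TwoS f x t) : Two f x t := by
  obtain ⟨u, z, g, hu, hP, hg, -, he⟩ := h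
  exact ⟨u, z, g, hu, hP, hg, he⟩

theorem NS.not_DW {f x : R} (h : NS f x) : ¬ DW f := fun ⟨u, l, hl, he⟩ => h u l hl (Submodule.mem_sup_right he)

theorem NS.notMem_cube {f x : R} (h : NS f x) : f ∉ 𝔪 ^ 3 := fun hf =>
  h 0 0 (zero_mem _) (Submodule.mem_sup_right (by simpa using hf))

theorem DW.unit_mul {f v : R} (h : DW f) : DW (v * f) := by
  obtain ⟨u, l, hl, he⟩ := h
  exact ⟨v * u, l, hl, by rw [mul_assoc, ← mul_sub]; exact Ideal.mul_mem_left _ _ he⟩

theorem NS.unit_mul {f x v : R} (hv : IsUnit v) (h : NS f x) : NS (v * f) x := fun u l hl he => by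
  obtain ⟨v, rfl⟩ := hv
  refine h (↑v⁻¹ * u) l hl ?_
  rw [show f - ↑v⁻¹ * u * l ^ 2 = ↑v⁻¹ * (↑v * f - u * l ^ 2) by rw [mul_sub, Units.inv_mul_cancel_left, mul_assoc]]
  exact Ideal.mul_mem_left _ _ he

theorem D1.unit_mul {f x v : R} (hv : IsUnit v) (h : D1 f x) : D1 (v * f) x := by
  obtain ⟨u, z, w, g, hu, hP, hg, rfl⟩ := h
  exact ⟨v * u, z, w, v * g, hv.mul hu, hP, Ideal.mul_mem_left _ _ hg, by ring⟩

theorem Two.unit_mul {f x t v : R} (hv : IsUnit v) (h : Two f x t) : Two (v * f) x t := by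
  obtain ⟨u, z, g, hu, hP, hg, rfl⟩ := h
  exact ⟨v * u, z, v * g, hv.mul hu, hP, Ideal.mul_mem_left _ _ hg, by ring⟩

theorem TwoS.unit_mul {f x t v : R} (hv : IsUnit v) (h : TwoS f x t) : TwoS (v * f) x t := by
  obtain ⟨u, z, g, hu, hP, hg, hg', rfl⟩ := h
  exact ⟨v * u, z, v * g, hv.mul hu, hP, Ideal.mul_mem_left _ _ hg,
    fun hh => hg' ((Ideal.unit_mul_mem_iff_mem _ hv).1 hh), by ring⟩

theorem NP.unit_mul {f v : R} (hv : IsUnit v) (h : NP f) : NP (v * f) := fun p q r hP hm =>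
  h p q r hP ((Ideal.unit_mul_mem_iff_mem _ hv).1 hm)

theorem Params.div_mem_sq {a b c : R} (hP : Params a b c) {g : R} (h : a * g ∈ 𝔪 ^ 3) : g ∈ 𝔪 ^ 2 := by
  have hg : g ∈ 𝔪 := by
    by_contra hg
    exact hP.notMem_sq₁ ((Ideal.mul_unit_mem_iff_mem _ (isUnit_of_notMem hg)).1
      (Ideal.pow_le_pow_right (show 2 ≤ 3 by omega) h))
  obtain ⟨α, β, γ, rfl⟩ := hP.exists_lin hg
  obtain ⟨hα, hβ, hγ, -, -, -⟩ := hP.quad_eq (c₁ := α) (c₂ := β) (c₃ := γ) (c₄ := 0) (c₅ := 0) (c₆ := 0)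
    (by convert h using 1; ring)
  rw [pow_two]
  exact add_mem (add_mem (Ideal.mul_mem_mul hα hP.mem₁) (Ideal.mul_mem_mul hβ hP.mem₂)) (Ideal.mul_mem_mul hγ hP.mem₃)

theorem Params.mem_of_mul_mem_sq {a b c : R} (hP : Params a b c) {g : R} (h : a * g ∈ 𝔪 ^ 2) : g ∈ 𝔪 := by
  by_contra hg
  exact hP.notMem_sq₁ ((Ideal.mul_unit_mem_iff_mem _ (isUnit_of_notMem hg)).1 h)

/-- `f'` is the strict transform of `f`. -/
structure Link (φ : R →+* R') (f : R) (f' : R') : Prop where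
  blow : Blow φ
  mem : f ∈ maximalIdeal R ^ 2
  sing : f' ∈ maximalIdeal R' ^ 2
  eq : Ideal.span {φ f} = (maximalIdeal R).map φ ^ 2 * Ideal.span {f'}

theorem Link.exists_rep {φ : R →+* R'} {f : R} {f' : R'} (L : Link φ f f') {a : R}
    (ha : (maximalIdeal R).map φ = Ideal.span {φ a}) :
    ∃ g v, φ f = φ a ^ 2 * g ∧ g ∈ maximalIdeal R' ^ 2 ∧ IsUnit v ∧ f' = v * g := by
  obtain ⟨g, hg⟩ := Blow.exists_div ha L.mem
  haveI := Groth.L01.isDomain_of_regular R'
  have he := L.eq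
  rw [Blow.mapPow_eq ha, Ideal.span_singleton_mul_span_singleton, hg, Ideal.span_singleton_eq_span_singleton] at he
  obtain ⟨v, hv⟩ := he
  have hv' : g * ↑v = f' := L.blow.cancel ha (n := 2) (by rw [← hv]; ring)
  refine ⟨g, v, hg, ?_, v.isUnit, by rw [← hv']; ring⟩
  have := L.sing
  rw [← hv'] at this
  exact (Ideal.mul_unit_mem_iff_mem _ v.isUnit).1 this

theorem Blow.mem_cube {φ : R →+* R'} (B : Blow φ) {a g : R} (ha : (maximalIdeal R).map φ = Ideal.span {φ a})
    (hg : g ∈ maximalIdeal R ^ 2) {g' : R'} (he : φ g = φ a ^ 2 * g') (h : g' ∈ Ideal.span {φ a}) :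
    g ∈ maximalIdeal R ^ 3 := B.mem_of_div_mem ha hg he h

theorem Blow.mem_of_map_mem {φ : R →+* R'} (B : Blow φ) {r : R} (h : φ r ∈ maximalIdeal R') : r ∈ 𝔪 := by
  by_contra hr
  exact notMem_of_isUnit ((isUnit_of_notMem hr).map φ) h

theorem Blow.param_of_isUnit {φ : R →+* R'} {a x : R} {X : R'} (ha : (maximalIdeal R).map φ = Ideal.span {φ a})
    (hx : φ x = φ a * X) (hX : IsUnit X) : (maximalIdeal R).map φ = Ideal.span {φ x} := by
  rw [ha, hx, Ideal.span_singleton_mul_right_unit hX]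

theorem Blow.exists_some_param {φ : R →+* R'} (B : Blow φ) :
    ∃ a, (maximalIdeal R).map φ = Ideal.span {φ a} := by
  obtain ⟨x, -, hx, -⟩ := B.exists_param
  exact ⟨x, hx⟩

end Groth.L05.RDP
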