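import Groth.Agent.L05.RDP.State

/-! Blowing up a double point whose tangent cone is a double line. -/

set_option autoImplicit false
set_option linter.style.haveILetI false
set_option backward.isDefEq.respectTransparency false
set_option backward.isDefEq.respectTransparency.types false
set_option maxHeartbeats 800000

universe u

noncomputable section

namespace Groth.L05.RDP

open IsLocalRing MvPolynomial

section Line

variable {k : Type u} [Field k]

/-- Restriction to the line `Z = 0`. -/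
abbrev lineRes : MvPolynomial (Fin 2) k →+* Polynomial k := eval₂Hom Polynomial.C ![Polynomial.X, 0]

/-- Extension from the line `Z = 0`. -/
abbrev lineExt : Polynomial k →+* MvPolynomial (Fin 2) k := Polynomial.eval₂RingHom C (X 0)

theorem lineRes_lineExt (p : Polynomial k) : lineRes (lineExt p) = p := by
  have : (lineRes : MvPolynomial (Fin 2) k →+* Polynomial k).comp lineExt = RingHom.id _ :=
    Polynomial.ringHom_ext (fun r => by simp) (by simp)
  exact congrArg (fun g : _ →+* _ => g p) this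

theorem sub_lineExt_mem (p : MvPolynomial (Fin 2) k) : p - lineExt (lineRes p) ∈ Ideal.span {X 1} := by
  induction p using MvPolynomial.induction_on with
  | C r => simp
  | add p q hp hq => rw [map_add, map_add, add_sub_add_comm]; exact add_mem hp hq
  | mul_X p i hp =>
    rw [map_mul, map_mul, show p * X i - lineExt (lineRes p) * lineExt (lineRes (X i)) =
      (p - lineExt (lineRes p)) * X i + lineExt (lineRes p) * (X i - lineExt (lineRes (X i))) by ring]
    refine add_mem (Ideal.mul_mem_right _ _ hp) (Ideal.mul_mem_left _ _ ?_)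
    fin_cases i
    · simp
    · simp

theorem natDegree_lineRes_le {n : ℕ} {F : MvPolynomial (Fin 3) k} (hF : F.IsHomogeneous n) :
    (lineRes (aeval ![(1 : MvPolynomial (Fin 2) k), X 0, X 1] F)).natDegree ≤ n := by
  have h : (lineRes : MvPolynomial (Fin 2) k →+* Polynomial k).comp (aeval ![(1 : MvPolynomial (Fin 2) k), X 0, X 1]).toRingHom =
      eval₂Hom Polynomial.C ![1, Polynomial.X, 0] := by
    refine MvPolynomial.ringHom_ext (fun r => by simp) fun i => ?_
    fin_cases i <;> simp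
  rw [show lineRes (aeval ![(1 : MvPolynomial (Fin 2) k), X 0, X 1] F) = eval₂Hom Polynomial.C ![1, Polynomial.X, 0] F
    from congrArg (fun g : _ →+* _ => g F) h, coe_eval₂Hom, eval₂_eq']
  refine Polynomial.natDegree_sum_le_of_forall_le _ _ fun d hd => ?_
  have hdeg : d 0 + d 1 + d 2 = n := by
    simpa [Finsupp.weight_apply, Finsupp.sum_fintype, Fin.sum_univ_three] using hF (mem_support_iff.1 hd)
  refine (Polynomial.natDegree_C_mul_le _ _).trans ?_
  simp only [Fin.prod_univ_three, Matrix.cons_val_zero, Matrix.cons_val_one, Matrix.cons_val_two, Matrix.head_cons,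
    Matrix.tail_cons, one_pow, one_mul]
  refine Polynomial.natDegree_mul_le.trans ?_
  rw [Polynomial.natDegree_X_pow, Polynomial.natDegree_pow, Polynomial.natDegree_zero, mul_zero]
  omega

end Line

variable {R R' : Type u} [CommRing R] [IsRegularLocalRing R] [CommRing R'] [IsRegularLocalRing R']
variable {φ : R →+* R'} {a b l : R} {Y Z : R'} {u : R} {r g : R'}

theorem D_mem (C₀ : Coord φ a b l Y Z) (hu : IsUnit u) (hg : g = φ u * Z ^ 2 + φ a * r)
    (hsing : g ∈ maximalIdeal R' ^ 2) : Z ∈ maximalIdeal R' ∧ r ∈ maximalIdeal R' := by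
  have hZ : Z ∈ maximalIdeal R' := by
    have h2 : φ u * Z ^ 2 ∈ maximalIdeal R' := by
      rw [eq_sub_of_add_eq hg.symm]
      exact sub_mem (Ideal.pow_le_self two_ne_zero hsing) (Ideal.mul_mem_right _ _ (C₀.blow.param_mem' C₀.param))
    exact Ideal.IsPrime.mem_of_pow_mem inferInstance 2 ((Ideal.unit_mul_mem_iff_mem _ (hu.map φ)).1 h2)
  refine ⟨hZ, ?_⟩
  by_contra hr
  refine C₀.blow.param_notMem_sq C₀.param ((Ideal.mul_unit_mem_iff_mem _ (isUnit_of_notMem hr)).1 ?_)
  rw [eq_sub_of_add_eq' hg.symm]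
  exact sub_mem hsing (Ideal.mul_mem_left _ _ (Ideal.pow_mem_pow hZ 2))

theorem Coord.exists_line_params (C₀ : Coord φ a b l Y Z) (hZ : Z ∈ maximalIdeal R') :
    ∃ (π : Polynomial (ResidueField R)) (π₀ : MvPolynomial (Fin 2) R), π ≠ 0 ∧ ¬ IsUnit π ∧
      (∀ p, p ∈ C₀.point ↔ π ∣ lineRes p) ∧ Params (φ a) (Coord.ev φ Y Z π₀) Z := by
  haveI := C₀.point_isMaximal
  have hX1 : (X 1 : MvPolynomial (Fin 2) (ResidueField R)) ∈ C₀.point := by
    rw [show (X 1 : MvPolynomial (Fin 2) (ResidueField R)) = MvPolynomial.map (residue R) (X 1) by simp, C₀.map_mem_point]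
    simpa using hZ
  obtain ⟨π, hπ⟩ := (IsPrincipalIdealRing.principal (C₀.point.comap (lineExt (k := ResidueField R)))).principal
  have hspan : Submodule.span (Polynomial (ResidueField R)) {π} = Ideal.span {π} := rfl
  have hiff : ∀ p, p ∈ C₀.point ↔ π ∣ lineRes p := fun p => by
    rw [← Ideal.mem_span_singleton, ← hspan, ← hπ, Ideal.mem_comap]
    have h1 : p - lineExt (lineRes p) ∈ C₀.point :=
      (Ideal.span_le.2 (Set.singleton_subset_iff.2 hX1)) (sub_lineExt_mem p)
    exact ⟨fun h => by simpa using sub_mem h h1, fun h => by simpa using add_mem h1 h⟩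
  obtain ⟨π₀, hπ₀⟩ := MvPolynomial.map_surjective (σ := Fin 2) (residue R) Ideal.Quotient.mk_surjective (lineExt π)
  refine ⟨π, π₀, ?_, ?_, hiff, ?_⟩
  · rintro rfl
    have h1 : ∀ p, p ∈ C₀.point → lineRes p = 0 := fun p hp => zero_dvd_iff.1 ((hiff p).1 hp)
    have hker : C₀.point = RingHom.ker (lineRes (k := ResidueField R)) := le_antisymm h1 fun p hp =>
      (hiff p).2 (by rw [(RingHom.mem_ker).1 hp])
    haveI : (RingHom.ker (lineRes (k := ResidueField R))).IsMaximal := hker ▸ C₀.point_isMaximal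
    exact Polynomial.not_isField (ResidueField R) (MulEquiv.isField
      (Ideal.Quotient.maximal_ideal_iff_isField_quotient _ |>.1 this)
      (RingHom.quotientKerEquivOfSurjective (f := lineRes (k := ResidueField R))
        fun p => ⟨_, lineRes_lineExt p⟩).toMulEquiv.symm)
  · intro hu
    exact C₀.point_isMaximal.ne_top ((Ideal.eq_top_iff_one _).2 ((hiff 1).2 (by rw [map_one]; exact hu.dvd)))
  · have := C₀.params_of_point (π₁ := π₀) (π₂ := X 1) (le_antisymm (fun p hp => ?_) (Ideal.span_le.2 ?_))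
    · simpa using this
    · rw [hπ₀, map_X]
      obtain ⟨e, he⟩ := (hiff p).1 hp
      obtain ⟨q, hq⟩ := Ideal.mem_span_singleton'.1 (sub_lineExt_mem p)
      refine Ideal.mem_span_pair.2 ⟨lineExt e, q, ?_⟩
      rw [hq, he, map_mul]; ring
    · rw [hπ₀, map_X]
      rintro w (rfl | rfl)
      · exact (hiff _).2 (by rw [lineRes_lineExt])
      · exact hX1

theorem D_notMem_cube (C₀ : Coord φ a b l Y Z) (hu : IsUnit u) (hg : g = φ u * Z ^ 2 + φ a * r)
    (hsing : g ∈ maximalIdeal R' ^ 2) : g ∉ maximalIdeal R' ^ 3 := by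
  intro h3
  obtain ⟨hZ, hr⟩ := D_mem C₀ hu hg hsing
  obtain ⟨π, π₀, -, -, -, hP⟩ := C₀.exists_line_params hZ
  obtain ⟨α, β, γ, rfl⟩ := hP.exists_lin hr
  obtain ⟨-, -, -, -, -, h6⟩ := hP.quad_eq (c₁ := α) (c₂ := β) (c₃ := γ) (c₄ := 0) (c₅ := 0) (c₆ := φ u)
    (by convert h3 using 1; rw [hg]; ring)
  exact notMem_of_isUnit (hu.map φ) h6

/-- A double line whose successor is again one has a rational successor. -/
theorem D_point (C₀ : Coord φ a b l Y Z) (hu : IsUnit u) (hg : g = φ u * Z ^ 2 + φ a * r)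
    (hsing : g ∈ maximalIdeal R' ^ 2) (hNP : NP g) (hDW : DW g) (p₃ : MvPolynomial (Fin 2) R)
    (hp₃ : Coord.ev φ Y Z p₃ = r) (hdeg : (lineRes (MvPolynomial.map (residue R) p₃)).natDegree ≤ 3) :
    ∃ y : R, Params (φ a) (Y - φ y) Z ∧ (∀ w : R', ∃ w₀, w - φ w₀ ∈ maximalIdeal R') ∧
      r ∈ Ideal.span {φ a, Z} ⊔ maximalIdeal R' ^ 2 ∧ r ∉ Ideal.span {φ a, Z} ∧
      ∃ e, g - φ u * (Z + e * φ a) ^ 2 ∈ maximalIdeal R' ^ 3 := by
  obtain ⟨hZ, hr⟩ := D_mem C₀ hu hg hsing
  obtain ⟨π, π₀, hπ0, hπu, hiff, hP⟩ := C₀.exists_line_params hZ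
  haveI := C₀.point_isMaximal
  set x := φ a with hx
  set c := lineRes (MvPolynomial.map (residue R) p₃) with hc
  have hxI : Ideal.span {x} ≤ Ideal.span {x, Z} := Ideal.span_mono (by simp)
  have hrI : r ∉ Ideal.span {x, Z} := by
    intro hrI
    refine hNP x Z _ hP.swap₂ ?_
    rw [hg, pow_two (Ideal.span _)]
    refine add_mem (Ideal.mul_mem_left _ _ ?_) (Ideal.mul_mem_mul (Ideal.subset_span (by simp)) hrI)
    rw [pow_two]; exact Ideal.mul_mem_mul (Ideal.subset_span (by simp)) (Ideal.subset_span (by simp))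
  have hc0 : c ≠ 0 := by
    intro h0
    obtain ⟨q, hq⟩ := Ideal.mem_span_singleton'.1 (sub_lineExt_mem (MvPolynomial.map (residue R) p₃))
    rw [← hc, h0, map_zero, sub_zero] at hq
    obtain ⟨q₀, rfl⟩ := MvPolynomial.map_surjective (σ := Fin 2) (residue R) Ideal.Quotient.mk_surjective q
    have h1 := C₀.ev_mem_of_map_eq_zero (e := p₃ - q₀ * X 1) (by rw [map_sub, map_mul, map_X, hq, sub_self])
    refine hrI ?_
    rw [← hp₃, show Coord.ev φ Y Z p₃ = Coord.ev φ Y Z (p₃ - q₀ * X 1) + Coord.ev φ Y Z q₀ * Z by simp]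
    exact add_mem (hxI h1) (Ideal.mul_mem_left _ _ (Ideal.subset_span (by simp)))
  obtain ⟨u', L, hL, hDW⟩ := hDW
  obtain ⟨α, β, γ, hrl⟩ := hP.exists_lin hr
  obtain ⟨e, h₁, h₂, rfl⟩ := hP.exists_lin hL
  set π' := Coord.ev φ Y Z π₀
  obtain ⟨-, hβ, -, h4, -, h6⟩ := hP.quad_eq (c₁ := α - u' * e ^ 2) (c₂ := β - 2 * (u' * e * h₁))
    (c₃ := γ - 2 * (u' * e * h₂)) (c₄ := - (u' * h₁ ^ 2)) (c₅ := -(2 * (u' * h₁ * h₂))) (c₆ := φ u - u' * h₂ ^ 2)
    (by convert hDW using 1; rw [hg, hrl]; ring)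
  have hu2 : IsUnit (u' * h₂ ^ 2) := isUnit_of_notMem fun h =>
    notMem_of_isUnit (hu.map φ) (by simpa using add_mem h6 h)
  have hu' : IsUnit u' := isUnit_of_mul_isUnit_left hu2
  have hh₂ : IsUnit h₂ := (isUnit_pow_iff two_ne_zero).1 (isUnit_of_mul_isUnit_right hu2)
  have hh₁ : h₁ ∈ maximalIdeal R' :=
    Ideal.IsPrime.mem_of_pow_mem inferInstance 2 ((Ideal.unit_mul_mem_iff_mem _ hu').1 (by simpa using neg_mem h4))
  have hβm : β ∈ maximalIdeal R' := by
    have := add_mem hβ (Ideal.mul_mem_left _ 2 (Ideal.mul_mem_left _ (u' * e) hh₁))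
    simpa using this
  have hr2 : r ∈ Ideal.span {x, Z} ⊔ maximalIdeal R' ^ 2 := by
    rw [hrl, show α * x + β * π' + γ * Z = (α * x + γ * Z) + β * π' by ring]
    refine Submodule.add_mem_sup (add_mem (Ideal.mul_mem_left _ _ (Ideal.subset_span (by simp)))
      (Ideal.mul_mem_left _ _ (Ideal.subset_span (by simp)))) ?_
    rw [pow_two]; exact Ideal.mul_mem_mul hβm hP.mem₂
  -- the restriction of the cubic has a double root
  have hdvd : c ∈ Ideal.span {π} ^ 2 := by
    obtain ⟨w, hw, D, hD, hwD⟩ := Submodule.mem_sup.1 hr2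
    obtain ⟨A, B, rfl⟩ := Ideal.mem_span_pair.1 hw
    obtain ⟨pB, sB, hsB, -, hB⟩ := C₀.exists_lift_of_mem_pow 0 (z := B) (by simp)
    have h1 : Coord.ev φ Y Z (p₃ * sB - X 1 * pB) ∈ Ideal.span {x} ⊔ maximalIdeal R' ^ 2 := by
      rw [map_sub, map_mul, map_mul, hp₃, eval₂Hom_X', show ![Y, Z] 1 = Z from rfl, ← hwD,
        show (A * x + B * Z + D) * Coord.ev φ Y Z sB - Z * Coord.ev φ Y Z pB =
          (x * (A * Coord.ev φ Y Z sB) + Z * (B * Coord.ev φ Y Z sB - Coord.ev φ Y Z pB)) + D * Coord.ev φ Y Z sB by ring]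
      exact Submodule.add_mem_sup (add_mem (Ideal.mul_mem_right _ _ (Ideal.mem_span_singleton_self x))
        (Ideal.mul_mem_left _ _ hB)) (Ideal.mul_mem_right _ _ hD)
    have h2 := map_sq_le_of_le (lineRes (k := ResidueField R)) (I := C₀.point) (J := Ideal.span {π})
      (fun z hz => Ideal.mem_span_singleton.2 ((hiff z).1 hz)) (C₀.mem_point_pow h1)
    rw [map_sub, map_mul, map_mul, map_X, map_sub, map_mul, ← hc, map_mul, eval₂Hom_X',
      show ![Polynomial.X, (0 : Polynomial (ResidueField R))] 1 = 0 from rfl, zero_mul, sub_zero, mul_comm] at h2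
    haveI : (Ideal.span {π}).IsMaximal := by
      have hp : Prime π := by
        refine ⟨hπ0, hπu, fun p q hpq => ?_⟩
        have := Ideal.IsPrime.mem_or_mem (I := C₀.point) inferInstance
          ((hiff (lineExt p * lineExt q)).2 (by rwa [map_mul, lineRes_lineExt, lineRes_lineExt]))
        rwa [hiff, hiff, lineRes_lineExt, lineRes_lineExt] at this
      exact PrincipalIdealRing.isMaximal_of_irreducible hp.irreducible
    exact Coord.mem_pow_of_mul_mem (fun h => hsB ((hiff _).2 (Ideal.mem_span_singleton.1 h))) h2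
  rw [Ideal.span_singleton_pow, Ideal.mem_span_singleton] at hdvd
  have hle := Polynomial.natDegree_le_of_dvd hdvd hc0
  rw [Polynomial.natDegree_pow] at hle
  have hd1 : π.degree = 1 := by
    rw [Polynomial.degree_eq_natDegree hπ0]
    rcases Nat.le_one_iff_eq_zero_or_eq_one.1 (show π.natDegree ≤ 1 by omega) with h0 | h1
    · exact absurd (Polynomial.isUnit_iff_degree_eq_zero.2 (by rw [Polynomial.degree_eq_natDegree hπ0, h0]; rfl)) hπu
    · rw [h1]; rfl
  obtain ⟨y, hy⟩ := Polynomial.exists_root_of_degree_eq_one hd1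
  obtain ⟨y, rfl⟩ := Ideal.Quotient.mk_surjective y
  have hXy : (X 0 - C (residue R y) : MvPolynomial (Fin 2) (ResidueField R)) ∈ C₀.point := by
    rw [hiff]
    simp only [map_sub, eval₂Hom_X', eval₂Hom_C, Matrix.cons_val_zero]
    obtain ⟨d, hd⟩ := Polynomial.dvd_iff_isRoot.2 hy
    have hd0 : IsUnit d := by
      have hd1' := hd1
      rw [hd, Polynomial.degree_mul, Polynomial.degree_X_sub_C] at hd1'
      have hdne : d ≠ 0 := fun h0 => hπ0 (by rw [hd, h0, mul_zero])
      rw [Polynomial.degree_eq_natDegree hdne] at hd1'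
      refine Polynomial.isUnit_iff_degree_eq_zero.2 ?_
      rw [Polynomial.degree_eq_natDegree hdne]
      norm_cast at hd1' ⊢
      omega
    rw [hd]
    exact (IsUnit.mul_right_dvd hd0).2 dvd_rfl
  have hX1 : (X 1 - C (residue R 0) : MvPolynomial (Fin 2) (ResidueField R)) ∈ C₀.point := by
    rw [map_zero, map_zero, sub_zero, hiff]; simp
  refine ⟨y, by simpa using C₀.params_of_rational hXy hX1, C₀.exists_residue hXy hX1, hr2, hrI, ?_⟩
  obtain ⟨v, hv⟩ := hh₂.exists_left_inv
  refine ⟨v * e, ?_⟩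
  have hd : (φ u - u' * h₂ ^ 2) * (Z + v * e * x) ^ 2 ∈ maximalIdeal R' ^ 3 := by
    rw [pow_succ']
    exact Ideal.mul_mem_mul h6 (Ideal.pow_mem_pow (add_mem hZ (Ideal.mul_mem_left _ _ hP.mem₁)) 2)
  have hh : u' * ((h₁ * π') * (2 * (e * x + h₂ * Z) + h₁ * π')) ∈ maximalIdeal R' ^ 3 := by
    refine Ideal.mul_mem_left _ _ ?_
    rw [pow_succ, pow_two]
    exact Ideal.mul_mem_mul (Ideal.mul_mem_mul hh₁ hP.mem₂) (add_mem (Ideal.mul_mem_left _ _
      (add_mem (Ideal.mul_mem_left _ _ hP.mem₁) (Ideal.mul_mem_left _ _ hZ))) (Ideal.mul_mem_left _ _ hP.mem₂))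
  have := sub_mem (add_mem hDW hh) hd
  convert this using 1
  linear_combination (-(u' * ((2 * h₂ * Z * e * x) + e ^ 2 * x ^ 2 * (v * h₂ + 1)))) * hv

end Groth.L05.RDP
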